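import Cfsg.Agent.Lib.ZN.SymTwo

/-!
The two cases for a pair of maximal two-local subgroups `S₄ × C₂`: the common Sylow subgroup is a Sylow
subgroup of the whole group, or it is not.
-/

set_option autoImplicit false
set_option linter.unusedSectionVars false

namespace Cfsg.Agent.ZN.Cases

open Subgroup Cfsg Cfsg.Agent.JComp
open Cfsg.Agent.ZN.Model Cfsg.Agent.ZN.SymTwo

variable {G : Type*} [Group G] [Finite G]

/-- The centralizer of `z0` in `S₄`. -/
def D : Subgroup (Equiv.Perm (Fin 4)) := centralizer {z0.1}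

theorem dihedral_four : Nonempty (↥D ≃* DihedralGroup 4) := by
  have hmem : ∀ g, g ∈ D ↔ g * z0.1 = z0.1 * g := fun g => mem_centralizer_singleton_iff
  have hcard : Nat.card D = 8 := by
    rw [Nat.card_congr (Equiv.subtypeEquivRight hmem : D ≃ {g // g * z0.1 = z0.1 * g}),
      Nat.card_eq_fintype_card]
    decide +kernel
  set x : D := ⟨v0.1 * w0.1, (hmem _).2 (by decide +kernel)⟩ with hx
  set y : D := ⟨w0.1, (hmem _).2 (by decide +kernel)⟩ with hy
  have ho : orderOf x = 4 := by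
    haveI : Fact (Nat.Prime 2) := ⟨Nat.prime_two⟩
    exact orderOf_eq_prime_pow (p := 2) (n := 1)
      (fun h => absurd (congrArg Subtype.val h) (by simp [hx]; decide +kernel))
      (Subtype.ext (by simp [hx]; decide +kernel))
  have hyy : y * y = 1 := Subtype.ext (by simp [hy]; decide +kernel)
  have hyx : y * x * y⁻¹ = x⁻¹ := Subtype.ext (by simp [hx, hy]; decide +kernel)
  have hnot : y ∉ zpowers x := by
    intro h
    have hpow : ∀ k : Fin 4, w0.1 ≠ (v0.1 * w0.1) ^ (k : ℕ) := by decide +kernel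
    classical
    rw [mem_zpowers_iff_mem_range_orderOf, ho, Finset.mem_image] at h
    obtain ⟨k, hk, he⟩ := h
    have := congrArg Subtype.val he
    simp [hx, hy] at this
    exact hpow ⟨k, Finset.mem_range.1 hk⟩ this.symm
  obtain ⟨f, hf, -, -⟩ := Classical.CyclicExt.exists_dihedral_hom x y ho hyy hyx hnot
  have hbij : Function.Bijective f :=
    (Nat.bijective_iff_injective_and_card f).mpr ⟨hf, by rw [DihedralGroup.nat_card, hcard]⟩
  exact ⟨(MulEquiv.ofBijective f hbij).symm⟩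

variable {T P₁ P₂ P : Subgroup G}

/-- The case in which `T` is a Sylow subgroup of the group. -/
theorem case_eq (N : Subgroup G) [N.Normal] (hidx : ∀ K : Subgroup ↥N, K.index ≠ 2) (Q : Sylow 2 G)
    (hgen : N ⊔ omegaCenterOf (Q : Subgroup G) = ⊤) (F₁ : Frame (Q : Subgroup G) P₁)
    (F₂ : Frame (Q : Subgroup G) P₂) (hP₁ : IsMaximalTwoLocal P₁) (hP₂ : IsMaximalTwoLocal P₂)
    (hne : P₁ ≠ P₂) : Nonempty (↥((Q : Subgroup G) ⊓ N) ≃* DihedralGroup 4) := by
  classical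
  haveI : Fact (Nat.Prime 2) := ⟨Nat.prime_two⟩
  obtain ⟨c2, z2, v2, -, c1, z1, v1, -, cz1, cnz, vnz, -, hcomm⟩ := distinct
  have hzc : ∀ t ∈ (Q : Subgroup G), t * F₁.φ z0 = F₁.φ z0 * t := fun t ht => by
    obtain ⟨g, hg, rfl⟩ := F₁.exists_of_mem ht
    rw [← map_mul, ← map_mul, hg]
  have hcc : ∀ t ∈ (Q : Subgroup G), t * F₁.φ c0 = F₁.φ c0 * t := fun t ht => by
    obtain ⟨g, hg, rfl⟩ := F₁.exists_of_mem ht
    rw [← map_mul, ← map_mul, c0_central]
  -- `z` is not conjugate to the other central involutions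
  have hnot : ∀ u : G, (∀ t ∈ (Q : Subgroup G), t * u = u * t) → IsConj (F₁.φ z0) u →
      u = F₁.φ z0 := by
    intro u hu hzu
    obtain ⟨g, hg⟩ := isConj_iff.1 hzu
    have hgQ : g⁻¹⁻¹ * F₁.φ z0 * g⁻¹ ∈ centralizer ((Q : Subgroup G) : Set G) := by
      rw [inv_inv, hg]; exact mem_centralizer_iff.2 hu
    obtain ⟨n, hn, he⟩ := Sylow.conj_eq_normalizer_conj_of_mem_centralizer Q _ g⁻¹
      (mem_centralizer_iff.2 hzc) hgQ
    rw [inv_inv, hg] at he
    have h2 := F₁.conj_z (n := n⁻¹) fun x hx => (mem_normalizer_iff.1 (inv_mem hn) x).1 hx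
    rw [inv_inv] at h2
    exact he.trans h2
  have hc : ¬ IsConj (F₁.φ z0) (F₁.φ c0) := fun h => F₁.ne_of_ne cnz (hnot _ hcc h)
  have hcz : ¬ IsConj (F₁.φ z0) (F₁.φ c0 * F₁.φ z0) := fun h => by
    have := hnot _ (fun t ht => by rw [← mul_assoc, hcc t ht, mul_assoc, hzc t ht, ← mul_assoc]) h
    exact F₁.ne_one c1 (mul_eq_right.1 this)
  have hz12 : F₁.φ z0 = F₂.φ z0 := F₁.z_eq F₂
  have hw : F₂.φ v0 ∈ (Q : Subgroup G) := F₂.mem_T v0_inT
  have hw2 : F₂.φ v0 * F₂.φ v0 = 1 := by rw [← map_mul, v2, map_one]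
  have hwv : ¬ F₂.φ v0 * F₁.φ v0 = F₁.φ v0 * F₂.φ v0 := by
    intro h
    have hmem := F₁.mem_V_of_commute hw hw2 h hc hcz (hz12 ▸ F₂.isConj_v.1)
    have hle : F₂.V ≤ F₁.V := fun x hx => by
      rcases F₂.mem_V.1 hx with rfl | rfl | rfl | rfl
      · exact one_mem _
      · exact hz12 ▸ F₁.mem_V.2 (Or.inr (Or.inl rfl))
      · exact hmem
      · exact mul_mem hmem (hz12 ▸ F₁.mem_V.2 (Or.inr (Or.inl rfl)))
    have he : F₂.V = F₁.V := eq_of_le_of_card_ge hle (by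
      rw [Frame.V, Frame.V, card_map_of_injective F₁.inj, card_map_of_injective F₂.inj])
    exact hne ((F₁.normalizer_V hP₁).symm.trans (he ▸ F₂.normalizer_V hP₂))
  obtain ⟨F, fc, fz, fv, fw⟩ := F₁.renorm hw hw2 hwv
  -- `z` is in `N`
  have hA : ∀ a ∈ omegaCenterOf (Q : Subgroup G), ∀ b ∈ omegaCenterOf (Q : Subgroup G),
      a * b = b * a := fun a ha b hb => (mem_omegaCenterOf.1 hb).2.1 a (mem_omegaCenterOf.1 ha).1
  have hzN : F.φ z0 ∈ N := by
    have := commutator_mem hgen hA (F.φ v0) (F.φ w0)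
    rwa [← map_inv, ← map_inv, ← map_mul, ← map_mul, ← map_mul, hcomm] at this
  have hcN : F.φ c0 ∉ N := by
    intro hcN
    have hle : omegaCenterOf (Q : Subgroup G) ≤ N := fun u hu => by
      obtain ⟨h1, h2, -⟩ := mem_omegaCenterOf.1 hu
      rcases F.center_cases h1 h2 with rfl | rfl | rfl | rfl
      exacts [one_mem _, hzN, hcN, mul_mem hcN hzN]
    have hN : N = ⊤ := top_le_iff.1 (hgen.ge.trans (sup_le le_rfl hle))
    have hG : ∀ H : Subgroup G, H.index ≠ 2 := fun H hH => hidx (H.subgroupOf N) (by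
      show H.relIndex N = 2
      rw [hN, relIndex_top_right, hH])
    have hrel : (D8 F).relIndex (Q : Subgroup G) = 2 := relIndex_eq_two_iff_exists_notMem_and.2
      ⟨F.φ c0, F.mem_T c0_inT, c0_notMem_D8 F, fun b hb => (mem_D8_or F hb).symm⟩
    obtain ⟨g, hg⟩ := Involutions.ThompsonTransfer.exists_conj_mem hG Q (D8 F) (D8_le F) hrel
      (F.φ c0) (F.order_two c2 c1)
    have hsq : g * F.φ c0 * g⁻¹ * (g * F.φ c0 * g⁻¹) = 1 := by
      rw [show g * F.φ c0 * g⁻¹ * (g * F.φ c0 * g⁻¹) = g * (F.φ c0 * F.φ c0) * g⁻¹ by group,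
        ← map_mul, c2, map_one]
      group
    have hconj : IsConj (F₁.φ z0) (g * F.φ c0 * g⁻¹) := by
      rcases D8_inv F hg hsq (fun h => F.ne_one c1 (conj_eq_one_iff.1 h)) with h | h | h | h | h <;>
        rw [h]
      · rw [fz]
      · rw [fv]; exact F₁.isConj_v.1
      · rw [fv, fz]; exact F₁.isConj_v.2
      · rw [fw, hz12]; exact F₂.isConj_v.1
      · rw [fw, fz, hz12]; exact F₂.isConj_v.2
    exact hc (hconj.trans ((isConj_iff.2 ⟨g, by rw [fc]⟩ : IsConj (F₁.φ c0) (g * F.φ c0 * g⁻¹))).symm)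
  have hor : ∀ x : G, x ∈ N ∨ x * F.φ c0 ∈ N := by
    intro x
    obtain ⟨n, hn, u, hu, rfl⟩ := mem_sup_of_normal_left.1 (hgen.ge (mem_top x))
    obtain ⟨h1, h2, -⟩ := mem_omegaCenterOf.1 hu
    have e : F.φ c0 * F.φ c0 = 1 := by rw [← map_mul, c2, map_one]
    rcases F.center_cases h1 h2 with rfl | rfl | rfl | rfl
    · exact Or.inl (mul_mem hn (one_mem _))
    · exact Or.inl (mul_mem hn hzN)
    · refine Or.inr ?_
      rwa [mul_assoc, e, mul_one]
    · refine Or.inr ?_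
      rw [mul_assoc, show F.φ c0 * F.φ z0 * F.φ c0 = F.φ z0 by
        rw [← map_mul, ← map_mul, ← c0_central z0, mul_assoc, c2, mul_one]]
      exact mul_mem hn hzN
  -- projection to the first factor
  obtain ⟨e0⟩ := dihedral_four
  let R : Subgroup K := T0 ⊓ N.comap F.φ
  have hRmap : R.map F.φ = (Q : Subgroup G) ⊓ N := by
    rw [map_inf _ _ _ F.inj, F.map_T, map_comap_eq, F.range, ← inf_assoc,
      inf_eq_left.2 F.T_le]
  let π : R →* D :=
    { toFun := fun g => ⟨(g : K).1, mem_centralizer_singleton_iff.2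
        (congrArg Prod.fst (mem_T0.1 g.2.1))⟩
      map_one' := rfl
      map_mul' := fun _ _ => rfl }
  have hinj : Function.Injective π := by
    rw [injective_iff_map_eq_one]
    intro g hg
    have h1 : (g : K).1 = 1 := congrArg Subtype.val hg
    refine Subtype.ext ?_
    by_contra h
    have hg2 : (g : K).2 = Multiplicative.ofAdd 1 := by
      exact snd_cases _ fun h2 => h (Prod.ext h1 h2)
    exact hcN (by
      have : F.φ (g : K) ∈ N := g.2.2
      rwa [show (g : K) = c0 from Prod.ext h1 hg2] at this)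
  have hsurj : Function.Surjective π := by
    rintro ⟨p, hp⟩
    have hT : InT ((p, 1) : K) := Prod.ext (mem_centralizer_singleton_iff.1 hp) rfl
    rcases hor (F.φ (p, 1)) with h | h
    · exact ⟨⟨(p, 1), mem_T0.2 hT, h⟩, rfl⟩
    · rw [← map_mul] at h
      exact ⟨⟨(p, 1) * c0, mul_mem (mem_T0.2 hT) (mem_T0.2 c0_inT), h⟩,
        Subtype.ext (mul_one p)⟩
  exact ⟨((MulEquiv.subgroupCongr hRmap.symm).trans (R.equivMapOfInjective F.φ F.inj).symm).trans
    ((MulEquiv.ofBijective π ⟨hinj, hsurj⟩).trans e0)⟩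

/-- The common Sylow subgroup is not properly contained in a Sylow subgroup of the group. -/
theorem case_lt (N : Subgroup G) [N.Normal] (hidx : ∀ K : Subgroup ↥N, K.index ≠ 2) (Q : Sylow 2 G)
    (hgen : N ⊔ omegaCenterOf (Q : Subgroup G) = ⊤) (hQN : (Q : Subgroup G) ⊓ N ≠ ⊥)
    (hZ : centralizer (omegaCenterOf (Q : Subgroup G) : Set G) ≤
      normalizer ((Q : Subgroup G) : Set G))
    (F₁ : Frame T P) (hP : IsMaximalTwoLocal P) (hT : IsSylowTwoIn T P) (hTQ : T ≤ (Q : Subgroup G))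
    (hne : T ≠ (Q : Subgroup G)) : False := by
  classical
  haveI : Fact (Nat.Prime 2) := ⟨Nat.prime_two⟩
  obtain ⟨c2, z2, v2, w2, c1, z1, v1, w1, cz1, cnz, vnz, vw, hcomm⟩ := distinct
  set c := F₁.φ c0 with hc0
  set z := F₁.φ z0 with hz0
  have hcT : c ∈ T := F₁.mem_T c0_inT
  have hzT : z ∈ T := F₁.mem_T z0_inT
  have hCQ : ∀ q ∈ (Q : Subgroup G), q * c = c * q → q ∈ T := by
    intro q hq hqc
    have hU := sylowTwo_eq_of_le hT (Q.2.to_le (inf_le_left : (Q : Subgroup G) ⊓ P ≤ _)) inf_le_right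
      (le_inf hTQ hT.1)
    rw [← hU]
    exact ⟨hq, (F₁.cent_c hP).le (mem_centralizer_singleton_iff.2 hqc)⟩
  -- an element outside `T` normalising it
  have hout : ∀ s ∈ (Q : Subgroup G), s ∉ T → (∀ x ∈ T, s * x * s⁻¹ ∈ T) →
      s * c * s⁻¹ = c * z ∨ s * c * s⁻¹ = z := by
    intro s hsQ hsT hsn
    have hcen : ∀ t ∈ T, t * (s * c * s⁻¹) = s * c * s⁻¹ * t := by
      intro t ht
      have hs' : s⁻¹ ∈ normalizer (T : Set G) :=
        inv_mem (GenA.ZC.mem_normalizer_of_forall hsn)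
      have ht' : s⁻¹ * t * s ∈ T := by
        simpa using (mem_normalizer_iff.1 hs' t).1 ht
      obtain ⟨g, -, hg⟩ := F₁.exists_of_mem ht'
      have he : s⁻¹ * t * s * c = c * (s⁻¹ * t * s) := by
        rw [← hg, hc0, ← map_mul, ← map_mul, c0_central]
      calc t * (s * c * s⁻¹) = s * (s⁻¹ * t * s * c) * s⁻¹ := by group
        _ = s * (c * (s⁻¹ * t * s)) * s⁻¹ := by rw [he]
        _ = s * c * s⁻¹ * t := by group
    rcases F₁.center_cases (hsn c hcT) hcen with h | h | h | h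
    · exact absurd (conj_eq_one_iff.1 h) (F₁.ne_one c1)
    · exact Or.inr h
    · exact absurd (hCQ s hsQ (mul_inv_eq_iff_eq_mul.1 h)) hsT
    · exact Or.inl h
  obtain ⟨s₀, hs₀Q, hs₀T, hs₀N⟩ := exists_normalizes_not_mem Q.2 hTQ hne
  have hs₀n : ∀ x ∈ T, s₀ * x * s₀⁻¹ ∈ T := fun x hx => (mem_normalizer_iff.1 hs₀N x).1 hx
  have hzQ : ∀ q ∈ (Q : Subgroup G), q * z = z * q := by
    -- the centre of `Q` meets `N`, and lies in `{1, z, c, cz}`
    obtain ⟨u, huQ, -, huo, huc⟩ := GenA.ZC.exists_central Q.2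
      (show (Q : Subgroup G) ≤ normalizer (N : Set G) by rw [normalizer_eq_top N]; exact le_top) hQN
    have huT : u ∈ T := hCQ u huQ ((huc c (hTQ hcT)).eq)
    rcases F₁.center_cases huT (fun t ht => ((huc t (hTQ ht)).eq).symm) with h | h | h | h
    · exact absurd h (Involutions.Basic.ne_one huo)
    · exact fun q hq => by rw [hz0, ← h]; exact ((huc q hq).eq).symm
    · exact absurd (hCQ s₀ hs₀Q (by rw [hc0, ← h]; exact ((huc s₀ hs₀Q).eq).symm)) hs₀T
    · exfalso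
      apply hs₀T
      refine hCQ s₀ hs₀Q ?_
      have h1 : s₀ * (c * z) = c * z * s₀ := by rw [hc0, hz0, ← h]; exact ((huc s₀ hs₀Q).eq).symm
      have h2 : s₀ * z = z * s₀ := mul_inv_eq_iff_eq_mul.1 (F₁.conj_z hs₀n)
      rw [← mul_assoc, mul_assoc c z, ← h2, ← mul_assoc] at h1
      exact mul_right_cancel h1
  have hnotZ : ∀ u ∈ (Q : Subgroup G), (∀ q ∈ (Q : Subgroup G), q * u = u * q) → u = 1 ∨ u = z := by
    intro u hu huc
    have huT : u ∈ T := hCQ u hu (huc c (hTQ hcT)).symm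
    rcases F₁.center_cases huT (fun t ht => huc t (hTQ ht)) with h | h | h | h
    · exact Or.inl h
    · exact Or.inr h
    · exact absurd (hCQ s₀ hs₀Q (by rw [hc0, ← h]; exact huc s₀ hs₀Q)) hs₀T
    · exfalso
      apply hs₀T
      refine hCQ s₀ hs₀Q ?_
      have h1 : s₀ * (c * z) = c * z * s₀ := by rw [hc0, hz0, ← h]; exact huc s₀ hs₀Q
      rw [← mul_assoc, mul_assoc c z, ← hzQ s₀ hs₀Q, ← mul_assoc] at h1
      exact mul_right_cancel h1
  -- the centralizer of `z`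
  have hCz : centralizer ({z} : Set G) ≤ normalizer ((Q : Subgroup G) : Set G) := by
    refine fun g hg => hZ (mem_centralizer_iff.2 fun u hu => ?_)
    obtain ⟨h1, h2, -⟩ := mem_omegaCenterOf.1 hu
    rcases hnotZ u h1 h2 with rfl | rfl
    · rw [one_mul, mul_one]
    · exact (mem_centralizer_singleton_iff.1 hg).symm
  have hzc : ¬ IsConj z c := by
    intro h
    obtain ⟨g, hg⟩ := isConj_iff.1 h
    have hQg : (Q : Subgroup G).map (MulAut.conj g).toMonoidHom ≤ P := by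
      rintro _ ⟨q, hq, rfl⟩
      refine (F₁.cent_c hP).le (mem_centralizer_singleton_iff.2 ?_)
      show g * q * g⁻¹ * c = c * (g * q * g⁻¹)
      rw [← hg]
      calc g * q * g⁻¹ * (g * z * g⁻¹) = g * (q * z) * g⁻¹ := by group
        _ = g * (z * q) * g⁻¹ := by rw [hzQ q hq]
        _ = g * z * g⁻¹ * (g * q * g⁻¹) := by group
    have hd := card_dvd_of_le hQg
    rw [card_map_of_injective (MulAut.conj g).injective, F₁.card_P] at hd
    obtain ⟨k, hk⟩ := IsPGroup.iff_card.1 Q.2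
    have hlt : Nat.card T < Nat.card (Q : Subgroup G) := by
      by_contra hge
      push Not at hge
      exact hne (eq_of_le_of_card_ge hTQ hge)
    have h16 : Nat.card T = 16 := by
      rw [← F₁.map_T, card_map_of_injective F₁.inj, card_T0]
    rw [h16, hk] at hlt
    have hk5 : 5 ≤ k := by
      by_contra hlt5
      have := Nat.pow_le_pow_right (by norm_num : 0 < 2) (show k ≤ 4 by omega)
      norm_num at this
      omega
    rw [hk] at hd
    have := (pow_dvd_pow 2 hk5).trans hd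
    norm_num at this
  have hzcz : ¬ IsConj z (c * z) := by
    intro h
    refine hzc (h.trans (IsConj.symm (isConj_iff.2 ⟨s₀, ?_⟩)))
    exact (hout s₀ hs₀Q hs₀T hs₀n).resolve_right fun h' => hzc (isConj_iff.2 ⟨s₀, h'⟩).symm
  have hout' : ∀ s ∈ (Q : Subgroup G), s ∉ T → (∀ x ∈ T, s * x * s⁻¹ ∈ T) → s * c * s⁻¹ = c * z :=
    fun s hsQ hsT hsn => (hout s hsQ hsT hsn).resolve_right fun h =>
      hzc (isConj_iff.2 ⟨s, h⟩).symm
  -- the action of an outside element on `T`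
  have key : ∀ s ∈ (Q : Subgroup G), s ∉ T → (∀ x ∈ T, s * x * s⁻¹ ∈ T) →
      ∃ (F : Frame T P) (e : Fin 2), F.φ c0 = c ∧ F.φ z0 = z ∧ F.φ v0 = F₁.φ v0 ∧
        s * F.φ v0 * s⁻¹ = F.φ w0 ∧ s * F.φ w0 * s⁻¹ = F.φ (v0 * z0 ^ (e : ℕ)) ∧
        ∀ i j k l, s * F.φ (word i j k l) * s⁻¹ = F.φ (img e i j k l) := by
    intro s hsQ hsT hsn
    have hw : s * F₁.φ v0 * s⁻¹ ∈ T := hsn _ (F₁.mem_T v0_inT)
    have hw2 : s * F₁.φ v0 * s⁻¹ * (s * F₁.φ v0 * s⁻¹) = 1 := by
      rw [show s * F₁.φ v0 * s⁻¹ * (s * F₁.φ v0 * s⁻¹) = s * (F₁.φ v0 * F₁.φ v0) * s⁻¹ by group,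
        ← map_mul, v2, map_one]
      group
    have hwv : ¬ s * F₁.φ v0 * s⁻¹ * F₁.φ v0 = F₁.φ v0 * (s * F₁.φ v0 * s⁻¹) := by
      intro h
      have hzw : IsConj z (s * F₁.φ v0 * s⁻¹) := F₁.isConj_v.1.trans (isConj_iff.2 ⟨s, rfl⟩)
      have hm := F₁.mem_V_of_commute hw hw2 h hzc hzcz hzw
      have hzV : z ∈ F₁.V := F₁.mem_V.2 (Or.inr (Or.inl rfl))
      have hsz : s * z * s⁻¹ = z := by rw [hzQ s hsQ, mul_inv_cancel_right]
      have hsP : s ∈ P := by
        rw [← F₁.normalizer_V hP]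
        refine GenA.ZC.mem_normalizer_of_forall fun x hx => ?_
        rcases F₁.mem_V.1 hx with rfl | rfl | rfl | rfl
        · rw [mul_one, mul_inv_cancel]; exact one_mem _
        · rwa [hsz]
        · exact hm
        · rw [show s * (F₁.φ v0 * z) * s⁻¹ = s * F₁.φ v0 * s⁻¹ * (s * z * s⁻¹) by group, hsz]
          exact mul_mem hm hzV
      refine hsT (hCQ s hsQ ?_)
      exact mem_centralizer_singleton_iff.1 ((F₁.cent_c hP).ge hsP)
    obtain ⟨F, fc, fz, fv, fw⟩ := F₁.renorm hw hw2 hwv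
    have hss : s * s ∈ T := hCQ _ (mul_mem hsQ hsQ) (mul_inv_eq_iff_eq_mul.1 (by
      calc s * s * c * (s * s)⁻¹ = s * (s * c * s⁻¹) * s⁻¹ := by group
        _ = s * (c * z) * s⁻¹ := by rw [hout' s hsQ hsT hsn]
        _ = (s * c * s⁻¹) * (s * z * s⁻¹) := by group
        _ = c * z * z := by rw [hout' s hsQ hsT hsn, hzQ s hsQ, mul_inv_cancel_right]
        _ = c := by rw [mul_assoc, hz0, ← map_mul, z2, map_one, mul_one]))
    obtain ⟨g, hg, hgs⟩ := F.exists_of_mem hss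
    have he : ∃ e : Fin 2, g * v0 * g⁻¹ = v0 * z0 ^ (e : ℕ) := by
      exact conj_v0_T g hg
    obtain ⟨e, he⟩ := he
    have hsv : s * F.φ v0 * s⁻¹ = F.φ w0 := by rw [fv, fw]
    have hsw : s * F.φ w0 * s⁻¹ = F.φ (v0 * z0 ^ (e : ℕ)) := by
      rw [← he, F.conj_eq, hgs, ← hsv]
      group
    refine ⟨F, e, fc, fz, fv, hsv, hsw, fun i j k l => ?_⟩
    have hscz : s * F.φ c0 * s⁻¹ = F.φ (c0 * z0) := by
      rw [map_mul, fc, fz]; exact hout' s hsQ hsT hsn
    have hsz : s * F.φ z0 * s⁻¹ = F.φ z0 := by rw [fz, hzQ s hsQ, mul_inv_cancel_right]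
    simp only [word, img, map_mul, map_pow] at *
    rw [← MulAut.conj_apply, map_mul, map_mul, map_mul, map_pow, map_pow, map_pow, map_pow,
      MulAut.conj_apply, MulAut.conj_apply, MulAut.conj_apply, MulAut.conj_apply, hsv, hsw, hscz, hsz]
  -- fixed points of an outside element
  have hfix : ∀ s ∈ (Q : Subgroup G), s ∉ T → (∀ x ∈ T, s * x * s⁻¹ ∈ T) → ∀ x ∈ T, x * x = 1 →
      x * s = s * x → x = 1 ∨ x = z := by
    intro s hsQ hsT hsn x hx hx2 hxs
    obtain ⟨F, e, -, fz, -, -, -, hact⟩ := key s hsQ hsT hsn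
    obtain ⟨g, hg, rfl⟩ := F.exists_of_mem hx
    obtain ⟨i, j, k, l, rfl⟩ := exists_word g hg
    have h1 : img e i j k l = word i j k l := F.inj (by
      rw [← hact, ← hxs, mul_inv_cancel_right])
    rcases fix_inv e i j k l h1 (F.inj (by rw [map_mul, map_one]; exact hx2)) with h | h <;> rw [h]
    · exact Or.inl (map_one _)
    · exact Or.inr fz
  -- normalisers of `N_Q(T)` that fix `z` normalise `T`
  set R := (Q : Subgroup G) ⊓ normalizer (T : Set G) with hR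
  have hTR : T ≤ R := le_inf hTQ le_normalizer
  have hRout : ∀ r ∈ R, r ∉ T → r * c * r⁻¹ = c * z := fun r hr hrT =>
    hout' r hr.1 hrT fun x hx => (mem_normalizer_iff.1 hr.2 x).1 hx
  have hRfix : ∀ r ∈ R, r ∉ T → ∀ x ∈ T, x * x = 1 → x * r = r * x → x = 1 ∨ x = z :=
    fun r hr hrT => hfix r hr.1 hrT fun x hx => (mem_normalizer_iff.1 hr.2 x).1 hx
  have hRmul : ∀ a ∈ R, ∀ b ∈ R, a ∉ T → b ∉ T → a * b ∈ T := by
    intro a ha b hb haT hbT
    refine hCQ _ (mul_mem ha.1 hb.1) (mul_inv_eq_iff_eq_mul.1 ?_)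
    calc a * b * c * (a * b)⁻¹ = a * (b * c * b⁻¹) * a⁻¹ := by group
      _ = (a * c * a⁻¹) * (a * z * a⁻¹) := by rw [hRout b hb hbT]; group
      _ = c := by
        rw [hRout a ha haT, hzQ a ha.1, mul_inv_cancel_right, mul_assoc, hz0, ← map_mul, z2,
          map_one, mul_one]
  have hstep : ∀ n : G, (∀ r ∈ R, n * r * n⁻¹ ∈ R) → n * z = z * n → ∀ t ∈ T, n * t * n⁻¹ ∈ T := by
    intro n hn hnz t ht
    by_contra htn
    set x := n * c * n⁻¹ with hxdef
    have hxR : x ∈ R := hn c (hTR hcT)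
    have hx2 : x * x = 1 := by
      rw [hxdef, show n * c * n⁻¹ * (n * c * n⁻¹) = n * (c * c) * n⁻¹ by group, hc0, ← map_mul,
        c2, map_one]
      group
    have hcomm' : ∀ y ∈ T, x * (n * y * n⁻¹) = n * y * n⁻¹ * x := by
      intro y hy
      obtain ⟨g, -, rfl⟩ := F₁.exists_of_mem hy
      rw [hxdef, show n * c * n⁻¹ * (n * F₁.φ g * n⁻¹) = n * (c * F₁.φ g) * n⁻¹ by group, hc0,
        ← map_mul, ← c0_central, map_mul]
      group
    by_cases hxT : x ∈ T
    · rcases hRfix _ (hn t (hTR ht)) htn x hxT hx2 (hcomm' t ht) with h | h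
      · exact F₁.ne_one c1 (conj_eq_one_iff.1 h)
      · exact hzc (isConj_iff.2 ⟨n, h⟩).symm
    · have hninv : n⁻¹ ∈ normalizer (R : Set G) :=
        inv_mem (GenA.ZC.mem_normalizer_of_forall hn)
      have hback : ∀ y ∈ T, n⁻¹ * y * n ∈ R := fun y hy => by
        simpa using (mem_normalizer_iff.1 hninv y).1 (hTR hy)
      have hgood : ∀ y ∈ T, y * y = 1 → y ≠ 1 → y ≠ z → n⁻¹ * y * n ∉ T := by
        intro y hy hy2 hy1 hyz hmem
        have he := hcomm' _ hmem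
        rw [show n * (n⁻¹ * y * n) * n⁻¹ = y by group] at he
        rcases hRfix x hxR hxT y hy hy2 he.symm with h | h
        · exact hy1 h
        · exact hyz h
      have hvT : F₁.φ v0 ∈ T := F₁.mem_T v0_inT
      have hv := hgood _ hvT (by rw [← map_mul, v2, map_one]) (F₁.ne_one v1) (F₁.ne_of_ne vnz)
      have hcc := hgood c hcT (by rw [hc0, ← map_mul, c2, map_one]) (F₁.ne_one c1) (F₁.ne_of_ne cnz)
      have hprod : n⁻¹ * (F₁.φ v0 * c) * n ∈ T := by
        rw [show n⁻¹ * (F₁.φ v0 * c) * n = n⁻¹ * F₁.φ v0 * n * (n⁻¹ * c * n) by group]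
        exact hRmul _ (hback _ hvT) _ (hback c hcT) hv hcc
      refine hgood _ (mul_mem hvT hcT) ?_ ?_ ?_ hprod
      · rw [hc0, ← map_mul, ← map_mul, vc_facts.1, map_one]
      · rw [hc0, ← map_mul]; exact F₁.ne_one vc_facts.2.1
      · rw [hc0, hz0, ← map_mul]; exact F₁.ne_of_ne vc_facts.2.2
  have hRQ : R = (Q : Subgroup G) := by
    by_contra hRne
    obtain ⟨q, hqQ, hqR, hqN⟩ := exists_normalizes_not_mem Q.2 inf_le_left hRne
    exact hqR ⟨hqQ, GenA.ZC.mem_normalizer_of_forall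
      (hstep q (fun r hr => (mem_normalizer_iff.1 hqN r).1 hr) (hzQ q hqQ))⟩
  have hQn : ∀ q ∈ (Q : Subgroup G), ∀ x ∈ T, q * x * q⁻¹ ∈ T := fun q hq x hx =>
    (mem_normalizer_iff.1 (hRQ.ge hq).2 x).1 hx
  -- `N` is everything
  have hN : N = ⊤ := by
    obtain ⟨u, huQ, huN, huo, huc⟩ := GenA.ZC.exists_central Q.2
      (show (Q : Subgroup G) ≤ normalizer (N : Set G) by rw [normalizer_eq_top N]; exact le_top) hQN
    have huz : u = z := (hnotZ u huQ fun q hq => ((huc q hq).eq).symm).resolve_left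
      (Involutions.Basic.ne_one huo)
    refine top_le_iff.1 (hgen.ge.trans (sup_le le_rfl fun y hy => ?_))
    obtain ⟨h1, h2, -⟩ := mem_omegaCenterOf.1 hy
    rcases hnotZ y h1 h2 with rfl | rfl
    exacts [one_mem _, huz ▸ huN]
  have hG : ∀ H : Subgroup G, H.index ≠ 2 := fun H hH => hidx (H.subgroupOf N) (by
    show H.relIndex N = 2
    rw [hN, relIndex_top_right, hH])
  -- a subgroup of index two of `Q` not containing `c`
  obtain ⟨F, e, fc, fz, fv, hsv, hsw, hact⟩ := key s₀ hs₀Q hs₀T (hQn s₀ hs₀Q)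
  set A := D8 F with hA
  have hsA : ∀ a ∈ A, s₀ * a * s₀⁻¹ ∈ A := by
    intro a ha
    obtain ⟨g, hg, hg2, rfl⟩ := mem_D8.1 ha
    obtain ⟨i, j, k, l, rfl⟩ := exists_word g hg
    rw [hact]
    refine mem_D8.2 ⟨_, ?_, img_snd_one e i j k l hg2, rfl⟩
    obtain ⟨g', hg', hge⟩ := F.exists_of_mem (hQn s₀ hs₀Q _ (F.mem_T hg))
    rw [hact] at hge
    rwa [← F.inj hge]
  have hss : s₀ * s₀ ∈ A := by
    obtain ⟨g, hg, hgs⟩ := F.exists_of_mem (hRmul s₀ (hRQ.ge hs₀Q) s₀ (hRQ.ge hs₀Q) hs₀T hs₀T)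
    obtain ⟨i, j, k, l, rfl⟩ := exists_word g hg
    refine mem_D8.2 ⟨_, hg, fix_square e i j k l (F.inj ?_) (F.inj ?_) (F.inj ?_), hgs⟩
    · rw [← hact, hgs]; group
    · rw [F.conj_eq, hgs, ← hsw, ← hsv]; group
    · rw [F.conj_eq, hgs, show s₀ * s₀ * F.φ w0 * (s₀ * s₀)⁻¹ = s₀ * (s₀ * F.φ w0 * s₀⁻¹) * s₀⁻¹ by
        group, hsw, map_mul, map_pow, map_mul, map_pow, fz,
        show s₀ * (F.φ v0 * z ^ (e : ℕ)) * s₀⁻¹ = s₀ * F.φ v0 * s₀⁻¹ * (s₀ * z ^ (e : ℕ) * s₀⁻¹) by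
          group,
        hsv, show s₀ * z ^ (e : ℕ) = z ^ (e : ℕ) * s₀ from (Commute.pow_right (hzQ s₀ hs₀Q) _).eq,
        mul_inv_cancel_right]
  have hsA' : ∀ a ∈ A, s₀⁻¹ * a * s₀ ∈ A := fun a ha => by
    have := (mem_normalizer_iff.1 (inv_mem (GenA.ZC.mem_normalizer_of_forall hsA)) a).1 ha
    rwa [inv_inv] at this
  let M : Subgroup G :=
    { carrier := {x | x ∈ A ∨ s₀⁻¹ * x ∈ A}
      one_mem' := Or.inl (one_mem _)
      mul_mem' := fun {a b} ha hb => by
        rcases ha with ha | ha <;> rcases hb with hb | hb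
        · exact Or.inl (mul_mem ha hb)
        · refine Or.inr ?_
          rw [show s₀⁻¹ * (a * b) = s₀⁻¹ * a * s₀ * (s₀⁻¹ * b) by group]
          exact mul_mem (hsA' a ha) hb
        · exact Or.inr (by rw [← mul_assoc]; exact mul_mem ha hb)
        · refine Or.inl ?_
          rw [show a * b = s₀ * (s₀⁻¹ * a) * s₀⁻¹ * (s₀ * s₀) * (s₀⁻¹ * b) by group]
          exact mul_mem (mul_mem (hsA _ ha) hss) hb
      inv_mem' := fun {a} ha => by
        rcases ha with ha | ha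
        · exact Or.inl (inv_mem ha)
        · refine Or.inr ?_
          rw [show s₀⁻¹ * a⁻¹ = (s₀ * s₀)⁻¹ * (s₀ * (s₀⁻¹ * a)⁻¹ * s₀⁻¹) by group]
          exact mul_mem (inv_mem hss) (hsA _ (inv_mem ha)) }
  have hMT : ∀ x ∈ M, x ∈ T → x ∈ A := by
    rintro x (hx | hx) hxT
    · exact hx
    · refine absurd ?_ hs₀T
      have := mul_mem hxT (inv_mem (D8_le F hx))
      rwa [mul_inv_rev, inv_inv, ← mul_assoc, mul_inv_cancel, one_mul] at this
  have hMQ : M ≤ (Q : Subgroup G) := by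
    rintro x (hx | hx)
    · exact hTQ (D8_le F hx)
    · have := mul_mem hs₀Q (hTQ (D8_le F hx))
      rwa [mul_inv_cancel_left] at this
  have hrel : M.relIndex (Q : Subgroup G) = 2 := by
    refine relIndex_eq_two_iff_exists_notMem_and.2
      ⟨c, hTQ hcT, fun h => c0_notMem_D8 F (fc ▸ hMT c h hcT), fun b hb => ?_⟩
    by_cases hbT : b ∈ T
    · rcases mem_D8_or F hbT with h | h
      · exact Or.inr (Or.inl h)
      · exact Or.inl (Or.inl (fc ▸ h))
    · have ht : s₀⁻¹ * b ∈ T := by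
        refine hRmul _ (inv_mem (hRQ.ge hs₀Q)) b (hRQ.ge hb) (fun h => hs₀T ?_) hbT
        simpa using inv_mem h
      rcases mem_D8_or F ht with h | h
      · exact Or.inr (Or.inr h)
      · refine Or.inl (Or.inr ?_)
        rw [← mul_assoc]
        exact fc ▸ h
  obtain ⟨g, hg⟩ := Involutions.ThompsonTransfer.exists_conj_mem hG Q M hMQ hrel c
    (F₁.order_two c2 c1)
  set a := g * c * g⁻¹ with hadef
  have ha2 : a * a = 1 := by
    rw [hadef, show g * c * g⁻¹ * (g * c * g⁻¹) = g * (c * c) * g⁻¹ by group, hc0, ← map_mul, c2,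
      map_one]
    group
  have ha1 : a ≠ 1 := fun h => F₁.ne_one c1 (conj_eq_one_iff.1 h)
  have hca : IsConj c a := isConj_iff.2 ⟨g, rfl⟩
  by_cases haT : a ∈ T
  · have hconj : IsConj z a := by
      have hzw : IsConj z (F.φ w0) := by
        rw [← hsv, fv]; exact F₁.isConj_v.1.trans (isConj_iff.2 ⟨s₀, rfl⟩)
      rcases D8_inv F (hMT a hg haT) ha2 ha1 with h | h | h | h | h <;> rw [h]
      · rw [fz]
      · rw [fv]; exact F₁.isConj_v.1
      · rw [fv, fz]; exact F₁.isConj_v.2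
      · exact hzw
      · refine F₁.isConj_v.2.trans (isConj_iff.2 ⟨s₀, ?_⟩)
        rw [fz, ← hsv, ← fv]
        calc s₀ * (F.φ v0 * z) * s₀⁻¹ = s₀ * F.φ v0 * s₀⁻¹ * (s₀ * z * s₀⁻¹) := by group
          _ = _ := by rw [hzQ s₀ hs₀Q, mul_inv_cancel_right]
    exact hzc (hconj.trans hca.symm)
  · have haQ := hMQ hg
    obtain ⟨Fa, ea, -, faz, -, -, -, hacta⟩ := key a haQ haT (hQn a haQ)
    obtain ⟨i, j, k, l, hfx, hsq⟩ := fix_four ea
    set y := Fa.φ (word i j k l) with hy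
    have hya : a * y = y * a := by
      have := hacta i j k l
      rw [hfx] at this
      exact mul_inv_eq_iff_eq_mul.1 this
    have hy2 : y * y = z := by rw [hy, ← map_mul, hsq, faz]
    set y' := g⁻¹ * y * g with hy'
    have hy'P : y' ∈ P := (F₁.cent_c hP).le (mem_centralizer_singleton_iff.2 (by
      calc y' * c = g⁻¹ * (y * a) * g := by rw [hy', hadef]; group
        _ = g⁻¹ * (a * y) * g := by rw [hya]
        _ = c * y' := by rw [hy', hadef]; group))
    have hz4 : z ≠ 1 := F₁.ne_one z1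
    have hy4 : y' ^ 2 ^ 2 = 1 := by
      rw [show (2 : ℕ) ^ 2 = 2 + 2 from rfl, pow_add, pow_two, hy',
        show g⁻¹ * y * g * (g⁻¹ * y * g) = g⁻¹ * (y * y) * g by group, hy2,
        show g⁻¹ * z * g * (g⁻¹ * z * g) = g⁻¹ * (z * z) * g by group, hz0, ← map_mul, z2, map_one]
      group
    have hyp : IsPGroup 2 (zpowers y') := by
      obtain ⟨m, -, hm⟩ := (Nat.dvd_prime_pow Nat.prime_two).1 (orderOf_dvd_of_pow_eq_one hy4)
      exact IsPGroup.of_card (n := m) (by rw [Nat.card_zpowers, hm])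
    obtain ⟨U, hU, hUle⟩ := exists_sylowTwo_ge hyp (zpowers_le.2 hy'P)
    obtain ⟨h, hhP, hhU⟩ := sylowTwo_conj hU hT
    have hyT : h * y' * h⁻¹ ∈ T := hhU ▸ conj_mem_cjg (hUle (mem_zpowers y'))
    obtain ⟨k', hk', hke⟩ := F₁.exists_of_mem hyT
    have hcube : h * y' * h⁻¹ * (h * y' * h⁻¹) = (h * g⁻¹) * z * (h * g⁻¹)⁻¹ := by
      rw [← hy2, hy']; group
    have hsq' : (h * g⁻¹) * z * (h * g⁻¹)⁻¹ = z := by
      rw [← hcube, ← hke, ← map_mul]
      rcases sq_T k' hk' with h' | h'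
      · exfalso
        apply hz4
        rw [← conj_eq_one_iff (a := h * g⁻¹), ← hcube, ← hke, ← map_mul, h', map_one]
      · rw [h']
    set n := h * g⁻¹ with hn
    have hnz : n * z = z * n := mul_inv_eq_iff_eq_mul.1 hsq'
    have hnQ : n ∈ normalizer ((Q : Subgroup G) : Set G) :=
      hCz (mem_centralizer_singleton_iff.2 hnz)
    have hnR : n ∈ normalizer (R : Set G) := hRQ.symm ▸ hnQ
    have hnT : ∀ t ∈ T, n * t * n⁻¹ ∈ T :=
      hstep n (fun r hr => (mem_normalizer_iff.1 hnR r).1 hr) hnz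
    have hhc : h * c * h⁻¹ = c := mul_inv_eq_iff_eq_mul.2
      (mem_centralizer_singleton_iff.1 ((F₁.cent_c hP).ge hhP))
    have hna : n * a * n⁻¹ = c := by
      rw [hn, hadef]
      calc h * g⁻¹ * (g * c * g⁻¹) * (h * g⁻¹)⁻¹ = h * c * h⁻¹ := by group
        _ = c := hhc
    refine haT ?_
    have := (mem_normalizer_iff.1 (GenA.ZC.mem_normalizer_of_forall hnT) a).2
      (by rw [hna]; exact hcT)
    exact this

end Cfsg.Agent.ZN.Cases
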