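import Cfsg.Prelude.Def_CaseTheorems
import Cfsg.Agent.Lib.CentFour.TwoGroup
import Cfsg.Agent.Lib.Classical.CyclicExt

/-!
A two-group with a self-centralising four-group and order at least eight is dihedral or semidihedral.
-/

set_option autoImplicit false

namespace Cfsg.Agent.ZN.Four

variable {S : Type*} [Group S] [Finite S]

/-- A central involution of a two-group containing a self-centralising four-group is unique. -/
theorem central_unique {V : Subgroup S} (hV2 : ∀ v ∈ V, v * v = 1) (hV4 : Nat.card V = 4)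
    (hC : Subgroup.centralizer (V : Set S) ≤ V) (h8 : 8 ≤ Nat.card S) {z u : S} (hz1 : z ≠ 1)
    (hzc : ∀ s, s * z = z * s) (hu1 : u ≠ 1) (huc : ∀ s, s * u = u * s) : u = z := by
  classical
  by_contra hne
  have hzV : z ∈ V := hC (Subgroup.mem_centralizer_iff.mpr fun v _ => hzc v)
  have huV : u ∈ V := hC (Subgroup.mem_centralizer_iff.mpr fun v _ => huc v)
  set W := V ⊓ Subgroup.center S
  have hzW : z ∈ W := ⟨hzV, Subgroup.mem_center_iff.mpr hzc⟩
  have huW : u ∈ W := ⟨huV, Subgroup.mem_center_iff.mpr huc⟩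
  haveI : Fintype W := Fintype.ofFinite _
  have h2 : 2 < Nat.card W := by
    rw [Nat.card_eq_fintype_card, Fintype.two_lt_card_iff]
    exact ⟨1, ⟨z, hzW⟩, ⟨u, huW⟩, fun e => hz1 (congrArg Subtype.val e).symm,
      fun e => hu1 (congrArg Subtype.val e).symm, fun e => hne (congrArg Subtype.val e).symm⟩
  have hd : Nat.card W ∣ 4 := hV4 ▸ Subgroup.card_dvd_of_le inf_le_left
  have h4 : Nat.card W = 4 := by
    have hle := Nat.le_of_dvd (by norm_num) hd
    interval_cases Nat.card W <;> omega
  have hVW : V ≤ Subgroup.center S := by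
    rw [← show W = V from Subgroup.eq_of_le_of_card_ge inf_le_left (by rw [h4, hV4])]
    exact inf_le_right
  have htop : Subgroup.centralizer (V : Set S) = ⊤ := top_le_iff.mp fun s _ =>
    Subgroup.mem_centralizer_iff.mpr fun v hv => (Subgroup.mem_center_iff.mp (hVW hv) s).symm
  have := Subgroup.card_le_of_le (htop ▸ hC)
  rw [Subgroup.card_top, hV4] at this
  omega

/-- A two-group with a self-centralising four-group and order at least eight is dihedral or
semidihedral. -/
theorem dihedral_or_quasiDihedral (hS : IsPGroup 2 S) {V : Subgroup S} (hV2 : ∀ v ∈ V, v * v = 1)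
    (hV4 : Nat.card V = 4) (hC : Subgroup.centralizer (V : Set S) ≤ V) (h8 : 8 ≤ Nat.card S) :
    (∃ n : ℕ, 2 ≤ n ∧ Nonempty (S ≃* DihedralGroup n)) ∨ Cfsg.IsQuasiDihedral S := by
  classical
  haveI : Fact (Nat.Prime 2) := ⟨Nat.prime_two⟩
  haveI : Nontrivial S := Finite.one_lt_card_iff_nontrivial.mp (by omega)
  haveI := hS.center_nontrivial
  obtain ⟨z₀, hz₀⟩ := exists_prime_orderOf_dvd_card' (G := Subgroup.center S) 2 (by
    obtain ⟨k, hk⟩ := IsPGroup.iff_card.mp (hS.to_subgroup (Subgroup.center S))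
    rw [hk]
    refine dvd_pow_self 2 fun h0 => ?_
    rw [h0, pow_zero] at hk
    have := Finite.one_lt_card (α := Subgroup.center S)
    omega)
  set z : S := (z₀ : S) with hz
  have hzo : orderOf z = 2 := by rw [hz, Subgroup.orderOf_coe, hz₀]
  have hz1 : z ≠ 1 := fun e => by rw [e, orderOf_one] at hzo; omega
  have hzc : ∀ s, s * z = z * s := Subgroup.mem_center_iff.mp z₀.2
  have hzV : z ∈ V := hC (Subgroup.mem_centralizer_iff.mpr fun v _ => hzc v)
  haveI : Fintype V := Fintype.ofFinite _
  obtain ⟨v, hv1, hvz⟩ : ∃ v : V, v ≠ 1 ∧ v ≠ ⟨z, hzV⟩ := by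
    by_contra hall
    push Not at hall
    have : (Finset.univ : Finset V) ⊆ {1, ⟨z, hzV⟩} := fun t _ => by
      by_cases ht : t = 1
      · simp [ht]
      · simp [hall t ht]
    have := (Finset.card_le_card this).trans Finset.card_le_two
    rw [Finset.card_univ, ← Nat.card_eq_fintype_card] at this
    omega
  set x : S := (v : S) with hx
  have hzx : z ≠ x := fun e => hvz (Subtype.ext e.symm)
  have hx1 : x ≠ 1 := fun e => hv1 (Subtype.ext e)
  have hsmall : Nat.card (Subgroup.centralizer ({x} : Set S)) ≤ 4 := by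
    rw [← hV4]
    refine Subgroup.card_le_of_le fun c hc => hC (Subgroup.mem_centralizer_iff.mpr fun t ht => ?_)
    have hcx : c * x = x * c := Subgroup.mem_centralizer_singleton_iff.mp hc
    have hd : Nat.card ↥(V ⊓ Subgroup.centralizer ({c} : Set S)) ∣ 4 :=
      hV4 ▸ Subgroup.card_dvd_of_le inf_le_left
    haveI : Fintype ↥(V ⊓ Subgroup.centralizer ({c} : Set S)) := Fintype.ofFinite _
    have h3 : 2 < Nat.card ↥(V ⊓ Subgroup.centralizer ({c} : Set S)) := by
      rw [Nat.card_eq_fintype_card, Fintype.two_lt_card_iff]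
      exact ⟨1, ⟨z, hzV, Subgroup.mem_centralizer_singleton_iff.mpr (hzc c).symm⟩,
        ⟨x, v.2, Subgroup.mem_centralizer_singleton_iff.mpr hcx.symm⟩,
        fun e => hz1 (congrArg Subtype.val e).symm, fun e => hx1 (congrArg Subtype.val e).symm,
        fun e => hzx (congrArg Subtype.val e)⟩
    have h4 : Nat.card ↥(V ⊓ Subgroup.centralizer ({c} : Set S)) = 4 := by
      have hle := Nat.le_of_dvd (by norm_num) hd
      interval_cases Nat.card ↥(V ⊓ Subgroup.centralizer ({c} : Set S)) <;> omega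
    have hle : V ≤ Subgroup.centralizer ({c} : Set S) :=
      inf_eq_left.mp (Subgroup.eq_of_le_of_card_ge inf_le_left (by rw [h4, hV4]))
    exact Subgroup.mem_centralizer_singleton_iff.mp (hle ht)
  rcases CentFour.structure_of_small_centralizer hS x hsmall with h' |
    ⟨m, a, y, ha, hcard, hy, hcase⟩
  · omega
  have hai : (Subgroup.zpowers a).index = 2 := by
    have := (Subgroup.zpowers a).card_mul_index
    rw [Nat.card_zpowers, ha, hcard, pow_succ 2 (m + 2)] at this
    exact Nat.eq_of_mul_eq_mul_left (by positivity) this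
  rcases hcase with ⟨hc, hy2⟩ | ⟨hc, hy2⟩ | ⟨hm, hc, hy2⟩
  · obtain ⟨f, hf, -, -⟩ := Classical.CyclicExt.exists_dihedral_hom a y ha hy2 hc hy
    haveI : NeZero (2 ^ (m + 2)) := ⟨by positivity⟩
    have hbij : Function.Bijective f :=
      (Nat.bijective_iff_injective_and_card f).mpr ⟨hf, by
        rw [DihedralGroup.nat_card, hcard, pow_succ' 2 (m + 2)]⟩
    exact Or.inl ⟨2 ^ (m + 2), le_trans (by norm_num) (Nat.pow_le_pow_right (by norm_num : 0 < 2)
      (show 1 ≤ m + 2 by omega)), ⟨(MulEquiv.ofBijective f hbij).symm⟩⟩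
  · exfalso
    have ha2 : a ^ 2 ^ (m + 2) = 1 := ha ▸ pow_orderOf_eq_one a
    have huniq : ∀ w : S, w ≠ 1 → w * w = 1 → w = a ^ 2 ^ (m + 1) := by
      intro w hw1 hw2
      by_cases hwa : w ∈ Subgroup.zpowers a
      · obtain ⟨i, rfl⟩ := mem_powers_iff_mem_zpowers.2 hwa
        have hd := orderOf_dvd_of_pow_eq_one (show a ^ (i + i) = 1 by rw [pow_add]; exact hw2)
        rw [ha, ← two_mul, pow_succ' 2 (m + 1)] at hd
        obtain ⟨k, rfl⟩ := Nat.dvd_of_mul_dvd_mul_left (by norm_num) hd
        show a ^ (2 ^ (m + 1) * k) = a ^ 2 ^ (m + 1)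
        rcases Nat.even_or_odd k with ⟨l, rfl⟩ | ⟨l, rfl⟩
        · exfalso; apply hw1
          show a ^ (2 ^ (m + 1) * (l + l)) = 1
          rw [show 2 ^ (m + 1) * (l + l) = 2 ^ (m + 2) * l by ring, pow_mul, ha2, one_pow]
        · rw [show 2 ^ (m + 1) * (2 * l + 1) = 2 ^ (m + 2) * l + 2 ^ (m + 1) by ring, pow_add,
            pow_mul, ha2, one_pow, one_mul]
      · exfalso
        obtain ⟨i, hi⟩ : y⁻¹ * w ∈ Subgroup.zpowers a := (Subgroup.mul_mem_iff_of_index_two hai).2
          (iff_of_false (fun h => hy (by simpa using inv_mem h)) hwa)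
        simp only at hi
        have hw' : w = y * a ^ i := by rw [hi, mul_inv_cancel_left]
        have hcy : y * a ^ i * y⁻¹ = (a ^ i)⁻¹ := by rw [← conj_zpow, hc, inv_zpow]
        have : w * w = y * y := by
          calc w * w = (y * a ^ i * y⁻¹) * (y * y) * a ^ i := by rw [hw']; group
            _ = y * y := by
              rw [hcy, hy2, ← zpow_natCast, mul_assoc, ← zpow_add, ← zpow_neg, ← zpow_add]
              congr 1; ring
        rw [hw2, hy2] at this
        have := orderOf_dvd_of_pow_eq_one this.symm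
        rw [ha, Nat.pow_dvd_pow_iff_le_right (by norm_num)] at this
        omega
    exact hzx ((huniq z hz1 (hV2 z hzV)).trans (huniq x hx1 (hV2 x v.2)).symm)
  · refine Or.inr ⟨m + 2, by omega, by rw [hcard], a, y, ha, ?_, ?_⟩
    · exact orderOf_eq_prime (by rw [pow_two]; exact hy2) fun e => hy (by rw [e]; exact one_mem _)
    · rw [hc, show m + 2 - 1 = m + 1 by omega]

end Cfsg.Agent.ZN.Four
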