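import Cfsg.Agent.Lib.ZN.Cases
import Cfsg.Agent.Lib.ZN.Four
import Cfsg.Agent.S2954

/-!
Groups of characteristic two type with solvable two-locals and `C(Ω₁Z(Q)) ≤ N(Q)`, with a normal subgroup
`N` without subgroups of index two and `N·Ω₁Z(Q)` the whole group: `N` has a strongly embedded subgroup
or `Q ∩ N` is dihedral or semidihedral.
-/

set_option autoImplicit false
set_option linter.unusedSectionVars false

namespace Cfsg.Agent.ZN.Main

open Subgroup Cfsg Cfsg.Agent.JComp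
open Cfsg.Agent.ZN.Model

variable {G : Type*} [Group G] [Finite G]

/-- The normal four-group of `S₄`. -/
def VS : Subgroup (Equiv.Perm (Fin 4)) := VK.comap (MonoidHom.inl _ _)

theorem mem_VS {p : Equiv.Perm (Fin 4)} : p ∈ VS ↔ InV ((p, 1) : K) := Iff.rfl

theorem VS_facts :
    (∀ g a : Equiv.Perm (Fin 4), InV ((a, 1) : K) → InV ((g * a * g⁻¹, 1) : K)) ∧
    (∀ a : Equiv.Perm (Fin 4), InV ((a, 1) : K) → a * a = 1) ∧
    (∀ g : Equiv.Perm (Fin 4), g * v0.1 = v0.1 * g → g * z0.1 = z0.1 * g → InV ((g, 1) : K)) ∧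
    InV ((v0.1, 1) : K) ∧ InV ((z0.1, 1) : K) ∧
    Fintype.card {p : Equiv.Perm (Fin 4) // InV ((p, 1) : K)} = 4 ∧
    Fintype.card (Equiv.Perm (Fin 4)) = 24 := by
  refine ⟨?_, ?_, ?_, ?_, ?_, ?_, ?_⟩ <;> decide +kernel

theorem card_VS : Nat.card VS = 4 := by
  rw [Nat.card_congr (Equiv.subtypeEquivRight (fun _ => mem_VS) :
      VS ≃ {p : Equiv.Perm (Fin 4) // InV ((p, 1) : K)}), Nat.card_eq_fintype_card]
  exact VS_facts.2.2.2.2.2.1

/-- The case of a maximal two-local subgroup `S₄`. -/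
theorem case_symFour (N : Subgroup G) [N.Normal] {T P : Subgroup G} (hP : IsMaximalTwoLocal P)
    (hT : IsSylowTwoIn T P) (e : ↥P ≃* Equiv.Perm (Fin 4)) (Q : Sylow 2 G)
    (hTQ : T ≤ (Q : Subgroup G)) (hgen : N ⊔ omegaCenterOf (Q : Subgroup G) = ⊤)
    (hQN : (Q : Subgroup G) ⊓ N ≠ ⊥) :
    (∃ n : ℕ, 2 ≤ n ∧ Nonempty (↥((Q : Subgroup G) ⊓ N) ≃* DihedralGroup n)) ∨
      IsQuasiDihedral ↥((Q : Subgroup G) ⊓ N) := by
  classical
  haveI : Fact (Nat.Prime 2) := ⟨Nat.prime_two⟩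
  obtain ⟨hconj, hsq, hcent, hv, hz, -, h24⟩ := VS_facts
  set φ : Equiv.Perm (Fin 4) →* G := P.subtype.comp e.symm.toMonoidHom with hφ
  have hinj : Function.Injective φ := P.subtype_injective.comp e.symm.injective
  have hmemP : ∀ p, φ p ∈ P := fun p => (e.symm p).2
  have hofP : ∀ x ∈ P, ∃ p, φ p = x := fun x hx => ⟨e ⟨x, hx⟩, by simp [hφ]⟩
  set V := VS.map φ with hV
  have hV4 : Nat.card V = 4 := by rw [hV, card_map_of_injective hinj, card_VS]
  have hV2 : IsPGroup 2 V := IsPGroup.of_card (n := 2) (by rw [hV4]; norm_num)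
  have hVP : V ≤ P := by rintro _ ⟨p, -, rfl⟩; exact hmemP p
  have hV1 : V ≠ ⊥ := fun h => by rw [h, card_bot] at hV4; omega
  have hPN : P ≤ normalizer (V : Set G) := fun x hx => GenA.ZC.mem_normalizer_of_forall (by
    obtain ⟨g, rfl⟩ := hofP x hx
    rintro _ ⟨a, ha, rfl⟩
    exact ⟨g * a * g⁻¹, hconj g a ha, by rw [map_mul, map_mul, map_inv]⟩)
  have hNV : normalizer (V : Set G) = P := hP.2 _ ⟨V, hV2, hV1, rfl⟩ hPN
  have hsq' : ∀ v ∈ V, v * v = 1 := by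
    rintro _ ⟨a, ha, rfl⟩
    rw [← map_mul, hsq a ha, map_one]
  have hC : centralizer (V : Set G) ≤ V := by
    intro x hx
    obtain ⟨g, rfl⟩ := hofP x (hNV.le (centralizer_le_normalizer _ hx))
    refine ⟨g, hcent g (hinj ?_) (hinj ?_), rfl⟩
    · rw [map_mul, map_mul]; exact (mem_centralizer_iff.1 hx _ ⟨v0.1, hv, rfl⟩).symm
    · rw [map_mul, map_mul]; exact (mem_centralizer_iff.1 hx _ ⟨z0.1, hz, rfl⟩).symm
  have hVT : V ≤ T := by
    have h2 := IsPGroup.to_sup_of_normal_right' hT.2.1 hV2 (hT.1.trans hPN)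
    exact le_sup_right.trans (sylowTwo_eq_of_le hT h2 (sup_le hT.1 hVP) le_sup_left).le
  have h8 : 8 ≤ Nat.card (Q : Subgroup G) := by
    have hd : T.relIndex P * Nat.card T = Nat.card P := by
      rw [relIndex, mul_comm, ← Nat.card_congr (subgroupOfEquivOfLe hT.1).toEquiv,
        Subgroup.card_mul_index]
    rw [Nat.card_congr e.toEquiv, show Nat.card (Equiv.Perm (Fin 4)) = 24 from
      Nat.card_eq_fintype_card.trans h24] at hd
    obtain ⟨k, hk⟩ := IsPGroup.iff_card.1 hT.2.1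
    obtain ⟨j, hj⟩ := hT.2.2
    rw [hk, hj] at hd
    have hk3 : 3 ≤ k := by
      by_contra hlt
      interval_cases k <;> omega
    calc 8 = 2 ^ 3 := by norm_num
      _ ≤ 2 ^ k := Nat.pow_le_pow_right (by norm_num) hk3
      _ = Nat.card T := hk.symm
      _ ≤ _ := card_le_of_le hTQ
  have hVQ : V ≤ (Q : Subgroup G) := hVT.trans hTQ
  set V' := V.subgroupOf (Q : Subgroup G) with hV'
  have hV'2 : ∀ v ∈ V', v * v = 1 := fun v hv => Subtype.ext (hsq' _ hv)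
  have hV'4 : Nat.card V' = 4 := by
    rw [hV', Nat.card_congr (subgroupOfEquivOfLe hVQ).toEquiv, hV4]
  have hC' : centralizer (V' : Set ↥(Q : Subgroup G)) ≤ V' := fun x hx =>
    mem_subgroupOf.2 (hC (mem_centralizer_iff.2 fun v hv =>
      congrArg Subtype.val (mem_centralizer_iff.1 hx ⟨v, hVQ hv⟩ (mem_subgroupOf.2 hv))))
  obtain ⟨z, hzQ, hzN, hzo, hzc⟩ := GenA.ZC.exists_central Q.2
    (show (Q : Subgroup G) ≤ normalizer (N : Set G) by rw [normalizer_eq_top N]; exact le_top) hQN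
  have hle : omegaCenterOf (Q : Subgroup G) ≤ N := fun u hu => by
    obtain ⟨h1, h2, -⟩ := mem_omegaCenterOf.1 hu
    by_cases hu1 : u = 1
    · rw [hu1]; exact one_mem _
    have := Four.central_unique hV'2 hV'4 hC' h8 (z := (⟨z, hzQ⟩ : ↥(Q : Subgroup G))) (u := ⟨u, h1⟩)
      (fun h => Involutions.Basic.ne_one hzo (congrArg Subtype.val h))
      (fun s => Subtype.ext (hzc s s.2).symm.eq)
      (fun h => hu1 (congrArg Subtype.val h)) (fun s => Subtype.ext (h2 s s.2))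
    have e' : u = z := congrArg Subtype.val this
    exact e' ▸ hzN
  have hN : N = ⊤ := top_le_iff.1 (hgen.ge.trans (sup_le le_rfl hle))
  rw [show (Q : Subgroup G) ⊓ N = (Q : Subgroup G) by rw [hN, inf_top_eq]]
  exact Four.dihedral_or_quasiDihedral Q.2 hV'2 hV'4 hC' h8

/-- A maximal straddling subgroup exists as soon as some subgroup straddles. -/
theorem exists_maxStraddle {M : Subgroup G} (h : (straddlingTwoSubgroups M).Nonempty) :
    ∃ T, T ∈ maxStraddlingTwoSubgroups M := by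
  obtain ⟨T1, hT1, h1⟩ := Set.exists_max_image _ (fun T : Subgroup G => maxElemAbelianOrder T)
    (Set.toFinite (straddlingTwoSubgroups M)) h
  obtain ⟨T2, ⟨hT2, ha2⟩, h2⟩ := Set.exists_max_image _
    (fun T : Subgroup G => Nat.card ↥(thompsonSubgroupOf 2 T))
    (Set.toFinite {T ∈ straddlingTwoSubgroups M | maxElemAbelianOrder T = maxElemAbelianOrder T1})
    ⟨T1, hT1, rfl⟩
  obtain ⟨T3, ⟨⟨hT3, ha3⟩, hJ3⟩, h3⟩ := Set.exists_max_image _ (fun T : Subgroup G => Nat.card ↥T)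
    (Set.toFinite {T ∈ {T ∈ straddlingTwoSubgroups M | maxElemAbelianOrder T = maxElemAbelianOrder T1} |
      Nat.card ↥(thompsonSubgroupOf 2 T) = Nat.card ↥(thompsonSubgroupOf 2 T2)}) ⟨T2, ⟨hT2, ha2⟩, rfl⟩
  refine ⟨T3, hT3, fun T hT => ⟨(h1 T hT).trans ha3.ge, fun hTa => ⟨?_, fun hTJ => ?_⟩⟩⟩
  · exact (h2 T ⟨hT, hTa.trans ha3⟩).trans hJ3.ge
  · exact h3 T ⟨⟨hT, hTa.trans ha3⟩, hTJ.trans hJ3⟩

theorem normalizer_zpowers_eq {t : G} (ht : orderOf t = 2) :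
    normalizer (zpowers t : Set G) = centralizer ({t} : Set G) := by
  refine le_antisymm (fun n hn => mem_centralizer_singleton_iff.2 ?_) ?_
  · obtain ⟨k, hk⟩ := mem_zpowers_iff.1 ((mem_normalizer_iff.1 hn _).1 (mem_zpowers t))
    obtain ⟨hsq, h1⟩ := Involutions.Basic.orderOf_two_iff.1 ht
    rcases Int.even_or_odd k with ⟨l, rfl⟩ | ⟨l, rfl⟩
    · rw [← two_mul, zpow_mul, zpow_ofNat, pow_two, hsq, one_zpow] at hk
      exact absurd (conj_eq_one_iff.1 hk.symm) h1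
    · rw [zpow_add, zpow_mul, zpow_ofNat, pow_two, hsq, one_zpow, one_mul, zpow_one] at hk
      exact mul_inv_eq_iff_eq_mul.1 hk.symm
  · rw [← centralizer_closure, ← zpowers_eq_closure]
    exact centralizer_le_normalizer _

/-- Without straddling subgroups, `N` has a strongly embedded subgroup. -/
theorem stronglyEmbedded_of_empty (N : Subgroup G) [hNn : N.Normal] (hO : pCore 2 G = ⊥)
    (Q : Sylow 2 G) (hgen : N ⊔ omegaCenterOf (Q : Subgroup G) = ⊤)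
    (hQN : (Q : Subgroup G) ⊓ N ≠ ⊥)
    (h : straddlingTwoSubgroups (normalizer (Jt (Q : Subgroup G) : Set G)) = ∅) :
    ∃ M : Subgroup ↥N, IsStronglyEmbedded M := by
  set M := normalizer (Jt (Q : Subgroup G) : Set G) with hM
  have hSM : (Q : Subgroup G) ≤ M := le_normalizer_J _
  have hNM : normalizer ((Q : Subgroup G) : Set G) ≤ M := normalizer_le_normalizer_J _
  have hcent : ∀ t ∈ M, orderOf t = 2 → centralizer ({t} : Set G) ≤ M := by
    intro t ht ho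
    by_contra hc
    have hne : zpowers t ≠ ⊥ := by simpa using Involutions.Basic.ne_one ho
    have : zpowers t ∈ straddlingTwoSubgroups M :=
      ⟨GenA.ZC.isPGroup_zpowers ho, hne, zpowers_le.2 ht, _,
        ⟨zpowers t, GenA.ZC.isPGroup_zpowers ho, hne, (normalizer_zpowers_eq ho).symm⟩,
        zpowers_le.2 (mem_centralizer_singleton_iff.2 rfl), hc⟩
    rw [h] at this
    exact this
  obtain ⟨z, hzQ, hzN, hzo, hzc⟩ := GenA.ZC.exists_central Q.2
    (show (Q : Subgroup G) ≤ normalizer (N : Set G) by rw [normalizer_eq_top N]; exact le_top) hQN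
  have hQ1 : (Q : Subgroup G) ≠ ⊥ := fun h => hQN (by rw [h, bot_inf_eq])
  have hJ1 : Jt (Q : Subgroup G) ≠ ⊥ := JComp.J_ne_bot Q.2 hQ1
  have hnle : ¬ N ≤ M := by
    intro hle
    have htop : M = ⊤ := top_le_iff.1
      (hgen.ge.trans (sup_le hle ((omegaCenterOf_le _).trans hSM)))
    haveI : (Jt (Q : Subgroup G)).Normal := normalizer_eq_top_iff.1 htop
    exact hJ1 (le_bot_iff.1 ((Cores.le_pCore (isPGroup_J Q.2)).trans hO.le))
  refine ⟨M.subgroupOf N, Involutions.StronglyEmbedded.of_conj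
    (fun h => hnle (subgroupOf_eq_top.1 h)) ?_ ?_⟩
  · have hd := orderOf_dvd_natCard (⟨⟨z, hzN⟩, hSM hzQ⟩ : M.subgroupOf N)
    rw [← orderOf_coe, ← orderOf_coe,
      show (((⟨⟨z, hzN⟩, hSM hzQ⟩ : M.subgroupOf N) : N) : G) = z from rfl, hzo] at hd
    exact even_iff_two_dvd.mpr hd
  rintro t htM ht g hgt
  show (g : G) ∈ M
  have ht2 : orderOf (t : G) = 2 := by rw [orderOf_coe, ht]
  have hu : (g : G) * t * (g : G)⁻¹ ∈ M := hgt
  obtain ⟨m, hm, hmu⟩ := GenA.ZC.conj_into Q hSM (zpowers_le.2 hu)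
    (GenA.ZC.isPGroup_zpowers (by rw [Involutions.Basic.orderOf_conj, ht2]))
  set u := m * ((g : G) * t * (g : G)⁻¹) * m⁻¹
  have huQ : u ∈ (Q : Subgroup G) := hmu _ (mem_zpowers _)
  set k := m * (g : G) with hk
  -- `k⁻¹ z k` centralises `t`
  set z' := k⁻¹ * z * k with hz'
  have hz'o : orderOf z' = 2 := by
    have := Involutions.Basic.orderOf_conj k⁻¹ z
    rwa [inv_inv, hzo] at this
  have hz'M : z' ∈ M := by
    refine hcent (t : G) htM ht2 (mem_centralizer_singleton_iff.2 ?_)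
    have huk : k * t * k⁻¹ = u := by simp only [u, hk]; group
    have hc : z * u = u * z := (hzc u huQ).eq
    calc z' * t = k⁻¹ * (z * (k * t * k⁻¹)) * k := by rw [hz']; group
      _ = k⁻¹ * (u * z) * k := by rw [huk, hc]
      _ = t * z' := by rw [hz', ← huk]; group
  have hQk : (Q : Subgroup G).map (MulAut.conj k⁻¹).toMonoidHom ≤ M := by
    rintro _ ⟨q, hq, rfl⟩
    refine hcent z' hz'M hz'o (mem_centralizer_singleton_iff.2 ?_)
    show k⁻¹ * q * k⁻¹⁻¹ * z' = z' * (k⁻¹ * q * k⁻¹⁻¹)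
    calc k⁻¹ * q * k⁻¹⁻¹ * z' = k⁻¹ * (q * z) * k := by rw [hz']; group
      _ = k⁻¹ * (z * q) * k := by rw [(hzc q hq).eq]
      _ = z' * (k⁻¹ * q * k⁻¹⁻¹) := by rw [hz']; group
  obtain ⟨m', hm', hm'Q⟩ := GenA.ZC.conj_into Q hSM hQk (Q.2.map _)
  have hn : m' * k⁻¹ ∈ normalizer ((Q : Subgroup G) : Set G) := by
    refine GenA.ZC.mem_normalizer_of_forall fun q hq => ?_
    have := hm'Q _ ⟨q, hq, rfl⟩
    rw [show (MulAut.conj k⁻¹).toMonoidHom q = k⁻¹ * q * k⁻¹⁻¹ from rfl] at this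
    rwa [show m' * k⁻¹ * q * (m' * k⁻¹)⁻¹ = m' * (k⁻¹ * q * k⁻¹⁻¹) * m'⁻¹ by group]
  have hkM : k ∈ M := by
    have h1 := mul_mem (inv_mem hm') (hNM hn)
    rw [inv_mul_cancel_left] at h1
    simpa using inv_mem h1
  have := mul_mem (inv_mem hm) hkM
  rwa [hk, inv_mul_cancel_left] at this

/-- The main alternative. -/
theorem structure_theorem (h : ZN G) (hO : pCore 2 G = ⊥) (N : Subgroup G) [hNn : N.Normal]
    (hidx : ∀ K : Subgroup ↥N, K.index ≠ 2) (Q : Sylow 2 G)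
    (hgen : N ⊔ omegaCenterOf (Q : Subgroup G) = ⊤) (hQN : (Q : Subgroup G) ⊓ N ≠ ⊥) :
    (∃ M : Subgroup ↥N, IsStronglyEmbedded M) ∨
      (∃ n : ℕ, 2 ≤ n ∧ Nonempty (↥((Q : Subgroup G) ⊓ N) ≃* DihedralGroup n)) ∨
      IsQuasiDihedral ↥((Q : Subgroup G) ⊓ N) := by
  classical
  haveI : Fact (Nat.Prime 2) := ⟨Nat.prime_two⟩
  set M := normalizer (Jt (Q : Subgroup G) : Set G) with hM
  rcases (straddlingTwoSubgroups M).eq_empty_or_nonempty with hne | hne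
  · exact Or.inl (stronglyEmbedded_of_empty N hO Q hgen hQN hne)
  refine Or.inr ?_
  obtain ⟨T, hT⟩ := exists_maxStraddle hne
  have hM2 : IsTwoLocal M := isTwoLocal_normalizer (isPGroup_J Q.2)
    (JComp.J_ne_bot Q.2 fun hQ => hQN (by rw [hQ, bot_inf_eq]))
  obtain ⟨P₁, P₂, hne12, hP₁, hP₂, hT₁, hT₂, hiso⟩ :=
    S2954.result h.char2 h.solv h.hz hO Q M hM2 le_rfl T hT
  obtain ⟨Q', hTQ'⟩ := hT₁.2.1.exists_le_sylow
  obtain ⟨g, hg⟩ := MulAction.exists_smul_eq G Q' Q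
  have hmapQ : (Q' : Subgroup G).map (MulAut.conj g).toMonoidHom = (Q : Subgroup G) := by
    rw [← hg, Sylow.coe_subgroup_smul]; rfl
  have hmapN : N.map (MulAut.conj g).toMonoidHom = N :=
    GenA.ZC.map_eq_of_forall fun y hy => hNn.conj_mem y hy g
  have hgen' : N ⊔ omegaCenterOf (Q' : Subgroup G) = ⊤ := by
    apply Subgroup.map_injective (f := (MulAut.conj g).toMonoidHom) (MulAut.conj g).injective
    rw [Subgroup.map_sup, hmapN, Subgroup.map_top_of_surjective _ (MulAut.conj g).surjective]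
    show N ⊔ cjg g (omegaCenterOf (Q' : Subgroup G)) = ⊤
    rw [cjg_omegaCenterOf]
    rw [show cjg g (Q' : Subgroup G) = (Q : Subgroup G) from hmapQ]
    exact hgen
  have hinf : ((Q' : Subgroup G) ⊓ N).map (MulAut.conj g).toMonoidHom = (Q : Subgroup G) ⊓ N := by
    rw [map_inf _ _ _ (MulAut.conj g).injective, hmapQ, hmapN]
  have hQN' : (Q' : Subgroup G) ⊓ N ≠ ⊥ := fun hb => hQN (by rw [← hinf, hb, Subgroup.map_bot])
  let e : ↥((Q : Subgroup G) ⊓ N) ≃* ↥((Q' : Subgroup G) ⊓ N) :=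
    ((((Q' : Subgroup G) ⊓ N).equivMapOfInjective (MulAut.conj g).toMonoidHom
      (MulAut.conj g).injective).trans (MulEquiv.subgroupCongr hinf)).symm
  suffices hgoal : (∃ n : ℕ, 2 ≤ n ∧ Nonempty (↥((Q' : Subgroup G) ⊓ N) ≃* DihedralGroup n)) ∨
      IsQuasiDihedral ↥((Q' : Subgroup G) ⊓ N) by
    rcases hgoal with ⟨n, hn, ⟨f⟩⟩ | ⟨n, hn, hc, x, y, hx, hy, hxy⟩
    · exact Or.inl ⟨n, hn, ⟨e.trans f⟩⟩
    · refine Or.inr ⟨n, hn, (Nat.card_congr e.toEquiv).trans hc, e.symm x, e.symm y, ?_, ?_, ?_⟩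
      · rw [MulEquiv.orderOf_eq, hx]
      · rw [MulEquiv.orderOf_eq, hy]
      · rw [← map_inv, ← map_mul, ← map_mul, hxy, map_pow]
  rcases hiso with ⟨⟨e₁⟩, -⟩ | ⟨⟨e₁⟩, ⟨e₂⟩⟩
  · exact case_symFour N hP₁ hT₁ e₁ Q' hTQ' hgen' hQN'
  obtain ⟨F₁⟩ := SymTwo.exists_frame hT₁ e₁
  obtain ⟨F₂⟩ := SymTwo.exists_frame hT₂ e₂
  by_cases hTQ : T = (Q' : Subgroup G)
  · subst hTQ
    exact Or.inl ⟨4, by norm_num, Cases.case_eq N hidx Q' hgen' F₁ F₂ hP₁ hP₂ hne12⟩
  · exact (Cases.case_lt N hidx Q' hgen' hQN' (h.hz Q') F₁ hP₁ hT₁ hTQ' hTQ).elim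

end Cfsg.Agent.ZN.Main
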