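import Mathlib

/-!
The group `S₄ × C₂` as a concrete model for maximal two-local subgroups in groups whose two-locals
are solvable with a centre-normal condition: finite facts checked by computation.
-/

set_option autoImplicit false

namespace Cfsg.Agent.ZN.Model

set_option synthInstance.maxSize 2000
set_option synthInstance.maxHeartbeats 200000

open Equiv

/-- `S₄ × C₂`. -/
abbrev K : Type := Equiv.Perm (Fin 4) × Multiplicative (ZMod 2)

/-- The central involution. -/
def c0 : K := (1, Multiplicative.ofAdd 1)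
/-- The commutator involution of the Sylow subgroup. -/
def z0 : K := (swap 0 2 * swap 1 3, 1)
/-- An involution of the normal four-group. -/
def v0 : K := (swap 0 1 * swap 2 3, 1)
/-- An involution of the Sylow subgroup not commuting with `v0`. -/
def w0 : K := (swap 0 2, 1)

/-- Membership of the Sylow subgroup `C(z0)`. -/
def InT (g : K) : Prop := g * z0 = z0 * g

instance : DecidablePred InT := fun g => by unfold InT; infer_instance

/-- The Sylow subgroup. -/
def T0 : Subgroup K := Subgroup.centralizer {z0}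

theorem mem_T0 {g : K} : g ∈ T0 ↔ InT g := Subgroup.mem_centralizer_singleton_iff

/-- Membership of the normal four-group. -/
def InV (g : K) : Prop := g = 1 ∨ g = z0 ∨ g = v0 ∨ g = v0 * z0

instance : DecidablePred InV := fun g => by unfold InV; infer_instance

set_option maxRecDepth 20000 in
theorem inV_mul : ∀ a : K, InV a → ∀ b : K, InV b → InV (a * b) := by decide +kernel

set_option maxRecDepth 20000 in
theorem inV_conj : ∀ g a : K, InV a → InV (g * a * g⁻¹) := by decide +kernel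

theorem inV_inv : ∀ a : K, InV a → InV a⁻¹ := by decide +kernel

/-- The normal four-group. -/
def VK : Subgroup K where
  carrier := {g | InV g}
  mul_mem' {a b} ha hb := inV_mul a ha b hb
  one_mem' := Or.inl rfl
  inv_mem' {a} ha := inV_inv a ha

theorem mem_VK {g : K} : g ∈ VK ↔ InV g := Iff.rfl

theorem card_T0 : Nat.card T0 = 16 := by
  rw [Nat.card_congr (Equiv.subtypeEquivRight (fun _ => mem_T0) : T0 ≃ {g : K // InT g}),
    Nat.card_eq_fintype_card]
  decide +kernel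

theorem card_VK : Nat.card VK = 4 := by
  rw [Nat.card_congr (Equiv.subtypeEquivRight (fun _ => mem_VK) : VK ≃ {g : K // InV g}),
    Nat.card_eq_fintype_card]
  decide +kernel

theorem card_K : Nat.card K = 48 := by
  rw [Nat.card_eq_fintype_card]
  decide +kernel

theorem c0_central : ∀ g : K, g * c0 = c0 * g := by decide +kernel

theorem c0_inT : InT c0 := by decide +kernel
theorem z0_inT : InT z0 := by decide +kernel
theorem v0_inT : InT v0 := by decide +kernel
theorem w0_inT : InT w0 := by decide +kernel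

theorem distinct : c0 * c0 = 1 ∧ z0 * z0 = 1 ∧ v0 * v0 = 1 ∧ w0 * w0 = 1 ∧ c0 ≠ 1 ∧ z0 ≠ 1 ∧
    v0 ≠ 1 ∧ w0 ≠ 1 ∧ c0 * z0 ≠ 1 ∧ c0 ≠ z0 ∧ v0 ≠ z0 ∧ v0 * w0 ≠ w0 * v0 ∧
    v0 * w0 * v0⁻¹ * w0⁻¹ = z0 := by decide +kernel

set_option maxRecDepth 20000 in
theorem comm_T : ∀ a : K, InT a → ∀ b : K, InT b →
    a * b * a⁻¹ * b⁻¹ = 1 ∨ a * b * a⁻¹ * b⁻¹ = z0 := by decide +kernel

theorem sq_T : ∀ a : K, InT a → a * a = 1 ∨ a * a = z0 := by decide +kernel

set_option maxRecDepth 20000 in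
theorem center_T : ∀ g : K, InT g → (∀ h : K, InT h → h * g = g * h) →
    g = 1 ∨ g = z0 ∨ g = c0 ∨ g = c0 * z0 := by decide +kernel

/-- Involutions of the Sylow subgroup commuting with `v0`. -/
theorem commute_v0 : ∀ g : K, InT g → g * g = 1 → g * v0 = v0 * g → InV g ∨ InV (g * c0) := by
  decide +kernel

theorem conj_z0_v0 : ∃ g : K, g * z0 * g⁻¹ = v0 := by decide +kernel
theorem conj_z0_vz0 : ∃ g : K, g * z0 * g⁻¹ = v0 * z0 := by decide +kernel

/-- Involutions of the `D₈`-part. -/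
theorem inv_snd_one : ∀ g : K, InT g → g.2 = 1 → g * g = 1 →
    g = 1 ∨ g = z0 ∨ g = v0 ∨ g = v0 * z0 ∨ g = w0 ∨ g = w0 * z0 := by decide +kernel

theorem cases_w : ∀ w : K, InT w → w * w = 1 → ¬ w * v0 = v0 * w →
    w = w0 ∨ w = w0 * z0 ∨ w = w0 * c0 ∨ w = w0 * z0 * c0 := by decide +kernel

/-- The sign, as an element of the second factor. -/
def sg (p : Equiv.Perm (Fin 4)) : Multiplicative (ZMod 2) :=
  if Equiv.Perm.sign p = 1 then 1 else Multiplicative.ofAdd 1

theorem sg_mul : ∀ p q : Equiv.Perm (Fin 4), sg (p * q) = sg p * sg q := by decide +kernel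

theorem sg_sq : ∀ x : Multiplicative (ZMod 2), x * x = 1 := by decide +kernel

/-- The automorphism `(p, i) ↦ (p, i + sgn p)`. -/
def twist : K ≃* K where
  toFun g := (g.1, g.2 * sg g.1)
  invFun g := (g.1, g.2 * sg g.1)
  left_inv g := Prod.ext rfl (by simp [mul_assoc, sg_sq])
  right_inv g := Prod.ext rfl (by simp [mul_assoc, sg_sq])
  map_mul' a b := Prod.ext rfl (by
    show a.2 * b.2 * sg (a.1 * b.1) = a.2 * sg a.1 * (b.2 * sg b.1)
    rw [sg_mul]; ac_rfl)

theorem twist_fix : twist c0 = c0 ∧ twist z0 = z0 ∧ twist v0 = v0 ∧ twist w0 = w0 * c0 ∧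
    v0 * c0 * v0⁻¹ = c0 ∧ v0 * z0 * v0⁻¹ = z0 ∧ v0 * w0 * v0⁻¹ = w0 * z0 ∧
    twist (w0 * z0) = w0 * z0 * c0 := by
  refine ⟨?_, ?_, ?_, ?_, ?_, ?_, ?_, ?_⟩ <;> decide +kernel

/-- Automorphisms normalising the choice of `w0`. -/
theorem exists_auto (w : K) (hw : InT w) (hw2 : w * w = 1) (hwv : ¬ w * v0 = v0 * w) :
    ∃ f : K ≃* K, f c0 = c0 ∧ f z0 = z0 ∧ f v0 = v0 ∧ f w0 = w := by
  obtain ⟨t1, t2, t3, t4, a1, a2, a3, t5⟩ := twist_fix
  rcases cases_w w hw hw2 hwv with rfl | rfl | rfl | rfl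
  · exact ⟨MulEquiv.refl K, rfl, rfl, rfl, rfl⟩
  · exact ⟨MulAut.conj v0, a1, a2, by simp, a3⟩
  · exact ⟨twist, t1, t2, t3, t4⟩
  · refine ⟨(MulAut.conj v0).trans twist, ?_, ?_, ?_, ?_⟩
    · show twist (v0 * c0 * v0⁻¹) = c0; rw [a1, t1]
    · show twist (v0 * z0 * v0⁻¹) = z0; rw [a2, t2]
    · show twist (v0 * v0 * v0⁻¹) = v0; rw [mul_inv_cancel_right, t3]
    · show twist (v0 * w0 * v0⁻¹) = w0 * z0 * c0; rw [a3, t5]

/-- A word in the generators of the Sylow subgroup. -/
def word (i j k l : Fin 2) : K := v0 ^ (i : ℕ) * w0 ^ (j : ℕ) * c0 ^ (k : ℕ) * z0 ^ (l : ℕ)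

/-- Its image under `c ↦ cz, v ↦ w, w ↦ vz^e, z ↦ z`. -/
def img (e i j k l : Fin 2) : K :=
  w0 ^ (i : ℕ) * (v0 * z0 ^ (e : ℕ)) ^ (j : ℕ) * (c0 * z0) ^ (k : ℕ) * z0 ^ (l : ℕ)

set_option maxRecDepth 20000 in
theorem exists_word : ∀ g : K, InT g → ∃ i j k l : Fin 2, g = word i j k l := by decide +kernel

set_option maxRecDepth 20000 in
theorem fix_inv : ∀ e i j k l : Fin 2, img e i j k l = word i j k l →
    word i j k l * word i j k l = 1 → word i j k l = 1 ∨ word i j k l = z0 := by decide +kernel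

set_option maxRecDepth 20000 in
theorem fix_four : ∀ e : Fin 2, ∃ i j k l : Fin 2, img e i j k l = word i j k l ∧
    word i j k l * word i j k l = z0 := by decide +kernel

set_option maxRecDepth 20000 in
theorem fix_square : ∀ e i j k l : Fin 2, img e i j k l = word i j k l →
    word i j k l * v0 * (word i j k l)⁻¹ = v0 * z0 ^ (e : ℕ) →
    word i j k l * w0 * (word i j k l)⁻¹ = w0 * z0 ^ (e : ℕ) →
    (word i j k l).2 = 1 := by decide +kernel

set_option maxRecDepth 20000 in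
theorem img_snd_one : ∀ e i j k l : Fin 2, (word i j k l).2 = 1 → (img e i j k l).2 = 1 := by
  decide +kernel

theorem snd_cases : ∀ i : Multiplicative (ZMod 2), i ≠ 1 → i = Multiplicative.ofAdd 1 := by
  decide +kernel

theorem conj_v0_T : ∀ g : K, InT g → ∃ e : Fin 2, g * v0 * g⁻¹ = v0 * z0 ^ (e : ℕ) := by
  decide +kernel

theorem vc_facts : v0 * c0 * (v0 * c0) = 1 ∧ v0 * c0 ≠ 1 ∧ v0 * c0 ≠ z0 := by decide +kernel

theorem v0z_inT : ∀ e : Fin 2, InT (v0 * z0 ^ (e : ℕ)) := by decide +kernel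

end Cfsg.Agent.ZN.Model
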