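import Cfsg.Agent.Lib.ZN.Main
import Cfsg.Agent.S3759

/-!
Reduction of the group structure theorem for groups with solvable two-locals and
`C(Ω₁Z(S)) ≤ N(S)` to the subgroup `O²(G)·Ω₁Z(S)`.
-/

set_option autoImplicit false

namespace Cfsg.Agent.ZN.Reduction

open Subgroup Cfsg

/-- Strongly embedded subgroups are preserved by isomorphisms. -/
theorem stronglyEmbedded_equiv {A B : Type*} [Group A] [Group B] [Finite A] [Finite B] (e : A ≃* B)
    {M : Subgroup A} (h : IsStronglyEmbedded M) : IsStronglyEmbedded (M.map e.toMonoidHom) := by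
  refine Involutions.StronglyEmbedded.of_conj (fun hT => h.1 ?_) ?_ ?_
  · exact Subgroup.map_injective (f := e.toMonoidHom) e.injective
      (hT.trans (Subgroup.map_top_of_surjective _ e.surjective).symm)
  · rw [card_map_of_injective e.injective]; exact h.2.1
  · rintro _ ⟨t, ht, rfl⟩ ho g hg
    refine ⟨e.symm g, Involutions.StronglyEmbedded.mem_of_conj h ht ?_ ?_, e.apply_symm_apply g⟩
    · rw [← MulEquiv.orderOf_eq e]; exact ho
    · obtain ⟨a, ha, hae⟩ := hg
      have : a = e.symm g * t * (e.symm g)⁻¹ := e.injective (by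
        rw [map_mul, map_mul, map_inv, e.apply_symm_apply]; exact hae)
      exact this ▸ ha

variable {G : Type*} [Group G] [Finite G]

/-- Solvability of two-locals passes to subgroups. -/
theorem solvable_local (hN : ∀ L : Subgroup G, IsTwoLocal L → Group.IsSolvable L) (Y : Subgroup G)
    (L : Subgroup ↥Y) (hL : IsTwoLocal L) : Group.IsSolvable ↥L := by
  obtain ⟨T, hT, hT1, rfl⟩ := hL
  haveI := hN _ ⟨T.map Y.subtype, hT.map _,
    fun h => hT1 ((map_eq_bot_iff_of_injective _ Y.subtype_injective).1 h), rfl⟩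
  let f : ↥(normalizer (T : Set ↥Y)) →* ↥(normalizer ((T.map Y.subtype : Subgroup G) : Set G)) :=
    { toFun := fun x => ⟨((x : Y) : G), le_normalizer_map Y.subtype ⟨x, x.2, rfl⟩⟩
      map_one' := rfl
      map_mul' := fun _ _ => rfl }
  refine Group.isSolvable_of_isSolvable_injective (f := f) fun a b h => ?_
  exact Subtype.ext (Subtype.ext
    (congrArg (fun u : ↥(normalizer ((T.map Y.subtype : Subgroup G) : Set G)) => (u : G)) h))

/-- Centralisers of involutions are solvable. -/
theorem solvable_centralizer (hN : ∀ L : Subgroup G, IsTwoLocal L → Group.IsSolvable L) (t : G)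
    (ht : orderOf t = 2) : Group.IsSolvable ↥(centralizer ({t} : Set G)) :=
  hN _ ⟨zpowers t, GenA.ZC.isPGroup_zpowers ht, by simpa using Involutions.Basic.ne_one ht,
    (Main.normalizer_zpowers_eq ht).symm⟩

end Cfsg.Agent.ZN.Reduction
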