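import Cfsg.Agent.Lib.ZN.Model
import Cfsg.Agent.Lib.JComp.Straddle
import Cfsg.Agent.GenA.ZC.Basic
import Cfsg.Agent.Lib.Classical.CyclicExt

/-!
Two maximal two-local subgroups `S₄ × C₂` with a common Sylow subgroup `T`: either `T` is a Sylow
subgroup of the group and `T ∩ N` is dihedral for the normal subgroup `N`, or a contradiction.
-/

set_option autoImplicit false
set_option linter.unusedSectionVars false

namespace Cfsg.Agent.ZN.SymTwo

open Subgroup Cfsg Cfsg.Agent.JComp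
open Cfsg.Agent.ZN.Model

variable {G : Type*} [Group G] [Finite G]

/-- An identification of `P` with `S₄ × C₂` carrying the standard Sylow subgroup to `T`. -/
structure Frame (T P : Subgroup G) where
  /-- The embedding. -/
  φ : K →* G
  inj : Function.Injective φ
  range : φ.range = P
  map_T : T0.map φ = T

variable {T P P' : Subgroup G}

theorem isPGroup_T0 : IsPGroup 2 T0 := IsPGroup.of_card (n := 4) (by rw [card_T0]; norm_num)

theorem exists_frame (hT : IsSylowTwoIn T P) (e : ↥P ≃* K) : Nonempty (Frame T P) := by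
  set φ0 : K →* G := P.subtype.comp e.symm.toMonoidHom with hφ0
  have hinj : Function.Injective φ0 := P.subtype_injective.comp e.symm.injective
  have hran : φ0.range = P := by
    ext x
    refine ⟨?_, fun hx => ⟨e ⟨x, hx⟩, by simp [hφ0]⟩⟩
    rintro ⟨g, rfl⟩
    exact (e.symm g).2
  have hT0 : IsSylowTwoIn (T0.map φ0) P := by
    refine ⟨(map_le_range _ _).trans hran.le, isPGroup_T0.map _, ?_⟩
    have hidx : T0.index = 3 := by
      have h := T0.card_mul_index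
      rw [card_T0, card_K] at h
      omega
    rw [← hran, MonoidHom.range_eq_map, relIndex_map_map_of_injective _ _ hinj, relIndex_top_right,
      hidx]
    decide
  obtain ⟨m, hm, hmT⟩ := sylowTwo_conj hT0 hT
  refine ⟨⟨(MulAut.conj m).toMonoidHom.comp φ0, (MulAut.conj m).injective.comp hinj, ?_, ?_⟩⟩
  · rw [MonoidHom.range_comp, hran]
    exact cjg_eq_self.2 (le_normalizer hm)
  · rw [← Subgroup.map_map]
    exact hmT

namespace Frame

variable (F : Frame T P)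

theorem mem_P (g : K) : F.φ g ∈ P := F.range.le ⟨g, rfl⟩

theorem mem_T {g : K} (h : InT g) : F.φ g ∈ T := F.map_T.le ⟨g, mem_T0.2 h, rfl⟩

theorem exists_of_mem {x : G} (hx : x ∈ T) : ∃ g : K, InT g ∧ F.φ g = x := by
  obtain ⟨g, hg, rfl⟩ := F.map_T.ge hx
  exact ⟨g, mem_T0.1 hg, rfl⟩

theorem exists_of_mem_P {x : G} (hx : x ∈ P) : ∃ g : K, F.φ g = x := F.range.ge hx

theorem ne_of_ne {a b : K} (h : a ≠ b) : F.φ a ≠ F.φ b := fun e => h (F.inj e)

theorem ne_one {a : K} (h : a ≠ 1) : F.φ a ≠ 1 := fun e => h (F.inj (e.trans F.φ.map_one.symm))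

theorem T_le (F : Frame T P) : T ≤ P := by
  intro x hx
  obtain ⟨g, -, rfl⟩ := F.exists_of_mem hx
  exact F.mem_P g

theorem order_two {a : K} (h : a * a = 1) (h1 : a ≠ 1) : orderOf (F.φ a) = 2 :=
  Involutions.Basic.orderOf_two_iff.mpr ⟨by rw [← map_mul, h, map_one], F.ne_one h1⟩

theorem card_P (F : Frame T P) : Nat.card P = 48 := by
  rw [← F.range, ← card_K]
  exact Nat.card_congr (MonoidHom.ofInjective F.inj).toEquiv.symm

theorem conj_eq (a b : K) : F.φ (a * b * a⁻¹) = F.φ a * F.φ b * (F.φ a)⁻¹ := by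
  rw [map_mul, map_mul, map_inv]

theorem z_eq (F' : Frame T P') : F.φ z0 = F'.φ z0 := by
  obtain ⟨a, ha, ea⟩ := F.exists_of_mem (F'.mem_T v0_inT)
  obtain ⟨b, hb, eb⟩ := F.exists_of_mem (F'.mem_T w0_inT)
  obtain ⟨-, -, -, -, -, hz1, -, -, -, -, -, -, hc⟩ := distinct
  have h : F'.φ z0 = F.φ (a * b * a⁻¹ * b⁻¹) := by
    rw [← hc, map_mul, map_mul, map_mul, map_inv, map_inv, ← ea, ← eb]
    simp only [map_mul, map_inv]
  rcases comm_T a ha b hb with h1 | h1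
  · rw [h1, map_one] at h
    exact absurd h (F'.ne_one hz1)
  · rw [h1] at h
    exact h.symm

/-- An element normalising `T` fixes the commutator involution. -/
theorem conj_z {n : G} (hn : ∀ x ∈ T, n * x * n⁻¹ ∈ T) : n * F.φ z0 * n⁻¹ = F.φ z0 := by
  obtain ⟨a, ha, ea⟩ := F.exists_of_mem (hn _ (F.mem_T v0_inT))
  obtain ⟨b, hb, eb⟩ := F.exists_of_mem (hn _ (F.mem_T w0_inT))
  obtain ⟨-, -, -, -, -, hz1, -, -, -, -, -, -, hc⟩ := distinct
  have h : n * F.φ z0 * n⁻¹ = F.φ (a * b * a⁻¹ * b⁻¹) := by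
    simp only [map_mul, map_inv, ea, eb]
    rw [← hc]
    simp only [map_mul, map_inv]
    group
  rcases comm_T a ha b hb with h1 | h1
  · rw [h1, map_one, conj_eq_one_iff] at h
    exact absurd h (F.ne_one hz1)
  · rw [h1] at h
    exact h

theorem center_cases {x : G} (hx : x ∈ T) (hc : ∀ t ∈ T, t * x = x * t) :
    x = 1 ∨ x = F.φ z0 ∨ x = F.φ c0 ∨ x = F.φ c0 * F.φ z0 := by
  obtain ⟨g, hg, rfl⟩ := F.exists_of_mem hx
  have h := center_T g hg fun k hk => F.inj (by rw [map_mul, map_mul]; exact hc _ (F.mem_T hk))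
  rcases h with rfl | rfl | rfl | rfl
  · exact Or.inl F.φ.map_one
  · exact Or.inr (Or.inl rfl)
  · exact Or.inr (Or.inr (Or.inl rfl))
  · exact Or.inr (Or.inr (Or.inr (map_mul _ _ _)))

theorem cent_c (hP : IsMaximalTwoLocal P) : centralizer ({F.φ c0} : Set G) = P := by
  obtain ⟨h2, -, -, -, h1, -⟩ := distinct
  have ho := F.order_two h2 h1
  have he : normalizer (zpowers (F.φ c0) : Set G) = centralizer ({F.φ c0} : Set G) := by
    refine le_antisymm (fun n hn => mem_centralizer_singleton_iff.2 ?_)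
      (by
        rw [← centralizer_closure, ← zpowers_eq_closure]
        exact centralizer_le_normalizer _)
    obtain ⟨k, hk⟩ := mem_zpowers_iff.1 ((mem_normalizer_iff.1 hn _).1 (mem_zpowers (F.φ c0)))
    have hsq : F.φ c0 * F.φ c0 = 1 := by rw [← map_mul, h2, map_one]
    rcases Int.even_or_odd k with ⟨l, rfl⟩ | ⟨l, rfl⟩
    · rw [← two_mul, zpow_mul, zpow_ofNat, pow_two, hsq, one_zpow] at hk
      exact absurd (conj_eq_one_iff.1 hk.symm) (F.ne_one h1)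
    · rw [zpow_add, zpow_mul, zpow_ofNat, pow_two, hsq, one_zpow, one_mul, zpow_one] at hk
      exact (mul_inv_eq_iff_eq_mul.1 hk.symm)
  refine hP.2 _ ⟨zpowers (F.φ c0), GenA.ZC.isPGroup_zpowers ho, by simpa using F.ne_one h1,
    he.symm⟩ fun x hx => ?_
  obtain ⟨g, rfl⟩ := F.exists_of_mem_P hx
  rw [mem_centralizer_singleton_iff, ← map_mul, ← map_mul, c0_central]

/-- The normal four-group. -/
def V : Subgroup G := VK.map F.φ

theorem mem_V {x : G} : x ∈ F.V ↔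
    x = 1 ∨ x = F.φ z0 ∨ x = F.φ v0 ∨ x = F.φ v0 * F.φ z0 := by
  constructor
  · rintro ⟨g, hg, rfl⟩
    rcases mem_VK.1 hg with rfl | rfl | rfl | rfl
    · exact Or.inl F.φ.map_one
    · exact Or.inr (Or.inl rfl)
    · exact Or.inr (Or.inr (Or.inl rfl))
    · exact Or.inr (Or.inr (Or.inr (map_mul _ _ _)))
  · rintro (rfl | rfl | rfl | rfl)
    · exact one_mem _
    · exact ⟨_, Or.inr (Or.inl rfl), rfl⟩
    · exact ⟨_, Or.inr (Or.inr (Or.inl rfl)), rfl⟩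
    · exact ⟨v0 * z0, Or.inr (Or.inr (Or.inr rfl)), map_mul _ _ _⟩

theorem normalizer_V (hP : IsMaximalTwoLocal P) : normalizer (F.V : Set G) = P := by
  have h2 : IsPGroup 2 F.V := (IsPGroup.of_card (n := 2) (by rw [card_VK]; norm_num)).map _
  have h1 : F.V ≠ ⊥ := fun h => F.ne_one distinct.2.2.2.2.2.2.1
    (mem_bot.1 (h.le (F.mem_V.2 (Or.inr (Or.inr (Or.inl rfl))))))
  refine hP.2 _ ⟨F.V, h2, h1, rfl⟩ fun x hx => GenA.ZC.mem_normalizer_of_forall ?_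
  obtain ⟨g, rfl⟩ := F.exists_of_mem_P hx
  rintro _ ⟨k, hk, rfl⟩
  exact ⟨g * k * g⁻¹, inV_conj g k hk, F.conj_eq g k⟩

theorem conj_v : (∃ g ∈ P, g * F.φ z0 * g⁻¹ = F.φ v0) ∧
    ∃ g ∈ P, g * F.φ z0 * g⁻¹ = F.φ v0 * F.φ z0 := by
  obtain ⟨g, hg⟩ := conj_z0_v0
  obtain ⟨k, hk⟩ := conj_z0_vz0
  exact ⟨⟨_, F.mem_P g, by rw [← hg, F.conj_eq]⟩,
    ⟨_, F.mem_P k, by rw [← F.conj_eq, hk, map_mul]⟩⟩

theorem isConj_v : IsConj (F.φ z0) (F.φ v0) ∧ IsConj (F.φ z0) (F.φ v0 * F.φ z0) := by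
  obtain ⟨⟨g, -, hg⟩, ⟨k, -, hk⟩⟩ := F.conj_v
  exact ⟨isConj_iff.2 ⟨g, hg⟩, isConj_iff.2 ⟨k, hk⟩⟩

theorem isConj_vc : IsConj (F.φ c0 * F.φ z0) (F.φ v0 * F.φ c0) ∧
    IsConj (F.φ c0 * F.φ z0) (F.φ v0 * F.φ z0 * F.φ c0) := by
  have key : ∀ g : K, IsConj (F.φ c0 * F.φ z0) (F.φ (g * z0 * g⁻¹) * F.φ c0) := fun g => by
    refine isConj_iff.2 ⟨F.φ g, ?_⟩
    rw [← map_mul F.φ c0, ← F.conj_eq, ← map_mul]
    congr 1
    rw [← c0_central z0, show g * (z0 * c0) * g⁻¹ = g * z0 * (c0 * g⁻¹) by group, ← c0_central g⁻¹]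
    group
  obtain ⟨g, hg⟩ := conj_z0_v0
  obtain ⟨k, hk⟩ := conj_z0_vz0
  exact ⟨hg ▸ key g, by rw [← map_mul F.φ v0, ← hk]; exact key k⟩

/-- An involution of `T` conjugate to `z` and commuting with `v` lies in `V`. -/
theorem mem_V_of_commute {w : G} (hw : w ∈ T) (hw2 : w * w = 1) (hwv : w * F.φ v0 = F.φ v0 * w)
    (hc : ¬ IsConj (F.φ z0) (F.φ c0)) (hcz : ¬ IsConj (F.φ z0) (F.φ c0 * F.φ z0))
    (hwz : IsConj (F.φ z0) w) : w ∈ F.V := by
  obtain ⟨g, hg, rfl⟩ := F.exists_of_mem hw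
  rcases commute_v0 g hg (F.inj (by rw [map_mul, map_one]; exact hw2))
      (F.inj (by rw [map_mul, map_mul]; exact hwv)) with h | h
  · exact ⟨g, h, rfl⟩
  exfalso
  obtain ⟨hcc, -⟩ := distinct
  have hcc' : F.φ c0 * F.φ c0 = 1 := by rw [← map_mul, hcc, map_one]
  have he : F.φ g = F.φ (g * c0) * F.φ c0 := by rw [map_mul, mul_assoc, hcc', mul_one]
  rw [he] at hwz
  obtain ⟨e1, e2⟩ := F.isConj_vc
  rcases h with h | h | h | h <;> rw [h] at hwz
  · rw [map_one, one_mul] at hwz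
    exact hc hwz
  · rw [← map_mul, c0_central, map_mul] at hwz
    exact hcz hwz
  · exact hcz (hwz.trans e1.symm)
  · rw [map_mul F.φ v0] at hwz
    exact hcz (hwz.trans e2.symm)

theorem renorm {w : G} (hw : w ∈ T) (hw2 : w * w = 1) (hwv : ¬ w * F.φ v0 = F.φ v0 * w) :
    ∃ F' : Frame T P, F'.φ c0 = F.φ c0 ∧ F'.φ z0 = F.φ z0 ∧ F'.φ v0 = F.φ v0 ∧ F'.φ w0 = w := by
  obtain ⟨g, hg, rfl⟩ := F.exists_of_mem hw
  obtain ⟨f, fc, fz, fv, fw⟩ := exists_auto g hg (F.inj (by rw [map_mul, map_one]; exact hw2))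
    (fun h => hwv (by rw [← map_mul, h, map_mul]))
  have hfT : T0.map f.toMonoidHom = T0 := by
    ext x
    rw [mem_map_equiv, mem_T0, mem_T0]
    constructor
    · intro h
      have := congrArg f h
      rwa [map_mul, map_mul, MulEquiv.apply_symm_apply, fz] at this
    · intro h
      apply f.injective
      rw [map_mul, map_mul, MulEquiv.apply_symm_apply, fz]
      exact h
  refine ⟨⟨F.φ.comp f.toMonoidHom, F.inj.comp f.injective, ?_, ?_⟩, congrArg F.φ fc, congrArg F.φ fz,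
    congrArg F.φ fv, congrArg F.φ fw⟩
  · rw [MonoidHom.range_comp, MonoidHom.range_eq_top.2 f.surjective, ← MonoidHom.range_eq_map,
      F.range]
  · rw [← Subgroup.map_map, hfT, F.map_T]

end Frame

/-- The elements `φ(p, 1)` with `(p, 1)` in the standard Sylow subgroup. -/
def D8 (F : Frame T P) : Subgroup G := (T0 ⊓ (MonoidHom.snd (Equiv.Perm (Fin 4)) _).ker).map F.φ

theorem mem_D8 {F : Frame T P} {x : G} : x ∈ D8 F ↔ ∃ g : K, InT g ∧ g.2 = 1 ∧ F.φ g = x := by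
  constructor
  · rintro ⟨g, ⟨hg, hg2⟩, rfl⟩
    exact ⟨g, mem_T0.1 hg, hg2, rfl⟩
  · rintro ⟨g, hg, hg2, rfl⟩
    exact ⟨g, ⟨mem_T0.2 hg, hg2⟩, rfl⟩

theorem D8_le (F : Frame T P) : D8 F ≤ T := by
  intro x hx
  obtain ⟨g, hg, -, rfl⟩ := mem_D8.1 hx
  exact F.mem_T hg

/-- An involution of the `D₈`-part is one of `z`, `v`, `vz`, `w`, `wz`. -/
theorem D8_inv (F : Frame T P) {x : G} (hx : x ∈ D8 F) (hx2 : x * x = 1) (hx1 : x ≠ 1) :
    x = F.φ z0 ∨ x = F.φ v0 ∨ x = F.φ v0 * F.φ z0 ∨ x = F.φ w0 ∨ x = F.φ w0 * F.φ z0 := by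
  obtain ⟨g, hg, hg2, rfl⟩ := mem_D8.1 hx
  rcases inv_snd_one g hg hg2 (F.inj (by rw [map_mul, map_one]; exact hx2)) with
    rfl | rfl | rfl | rfl | rfl | rfl
  · exact absurd F.φ.map_one hx1
  · exact Or.inl rfl
  · exact Or.inr (Or.inl rfl)
  · exact Or.inr (Or.inr (Or.inl (map_mul _ _ _)))
  · exact Or.inr (Or.inr (Or.inr (Or.inl rfl)))
  · exact Or.inr (Or.inr (Or.inr (Or.inr (map_mul _ _ _))))

theorem c0_notMem_D8 (F : Frame T P) : F.φ c0 ∉ D8 F := fun h => by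
  obtain ⟨g, -, hg2, hge⟩ := mem_D8.1 h
  rw [F.inj hge] at hg2
  exact absurd hg2 (by decide +kernel)

theorem mem_D8_or (F : Frame T P) {x : G} (hx : x ∈ T) : x ∈ D8 F ∨ x * F.φ c0 ∈ D8 F := by
  obtain ⟨g, hg, rfl⟩ := F.exists_of_mem hx
  by_cases h2 : g.2 = 1
  · exact Or.inl (mem_D8.2 ⟨g, hg, h2, rfl⟩)
  · refine Or.inr (mem_D8.2 ⟨g * c0, ?_, ?_, map_mul _ _ _⟩)
    · exact mem_T0.1 (mul_mem (mem_T0.2 hg) (mem_T0.2 c0_inT))
    · have : ∀ i : Multiplicative (ZMod 2), i ≠ 1 → i * Multiplicative.ofAdd 1 = 1 := by decide +kernel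
      exact this _ h2

/-- Commutators lie in a normal subgroup with abelian supplement. -/
theorem commutator_mem {N A : Subgroup G} [hN : N.Normal] (htop : N ⊔ A = ⊤)
    (hA : ∀ a ∈ A, ∀ b ∈ A, a * b = b * a) (x y : G) : x * y * x⁻¹ * y⁻¹ ∈ N := by
  obtain ⟨n, hn, a, ha, rfl⟩ := mem_sup_of_normal_left.1 (htop.ge (mem_top x))
  obtain ⟨m, hm, b, hb, rfl⟩ := mem_sup_of_normal_left.1 (htop.ge (mem_top y))
  rw [← QuotientGroup.eq_one_iff]
  simp only [QuotientGroup.mk_mul, QuotientGroup.mk_inv, (QuotientGroup.eq_one_iff _).2 hn,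
    (QuotientGroup.eq_one_iff _).2 hm, one_mul]
  rw [← QuotientGroup.mk_mul, hA a ha b hb, QuotientGroup.mk_mul]
  group

end Cfsg.Agent.ZN.SymTwo
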